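import Groth.Agent.Reductive.CentralNhd.Chart

/-!
Conjugation which is trivial over a point fixes the first-order deformations of the unit with values
killed by that point.
-/

set_option autoImplicit false
set_option backward.isDefEq.respectTransparency false
universe u

open CategoryTheory MonoidalCategory CartesianMonoidalCategory MonObj GrpObj AlgebraicGeometry
open Groth.Reductive.FreeDiag Groth.Reductive.CentralNhd

noncomputable section

namespace Groth.Reductive.CentralEq

attribute [local instance] algΓ'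

variable {T : Scheme.{u}} [IsAffine T] {M : Type} [AddCommGroup M] {G : Over T} [GrpObj G]
  {WT : Over T} [IsAffine WT.left] (w : WT ⟶ G) (eW : 𝟙_ (Over T) ⟶ WT) [IsOpenImmersion w.left]
  (heW : eW ≫ w = η[G]) (v : Red.DS T M ⟶ G) [IsMonHom v]

include heW in
/-- The first-order deformations at `p` are fixed. -/
theorem fixed_of_kills (p : Ideal Γ(T, ⊤)) [p.IsPrime]
    (h0 : ∀ (K : Type u) [Field K] (ιK : Γ(T, ⊤) →+* K), RingHom.ker ιK = p →
      TrivOn (commMap v) (Over.mk (Spec.map (CommRingCat.ofHom ιK) ≫ T.isoSpec.inv)))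
    (Z : Over T) (hu : ∀ r, r ∉ p → IsUnit (Z.hom.appTop.hom r))
    (h : Z ⟶ Red.DS T M) (y : Z ⟶ WT) (hy : ∀ b ∈ augIdeal eW ^ 2, y.left.appTop b = 0)
    (hyp : ∀ r ∈ p, ∀ b ∈ augIdeal eW, Z.hom.appTop.hom r * y.left.appTop.hom b = 0) :
    lift h (y ≫ w) ≫ conjMor v = y ≫ w := by
  classical
  haveI : Mono w := Over.mono_of_mono_left w
  set N := nbhd eW (1 + 1)
  set jN := nbhdι eW (1 + 1)
  obtain ⟨act, en, ψ, hact, hen, hker, hsec, hco, hone, hj, hstab, hψ⟩ :=
    exists_nbhd_coaction w eW v heW 1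
  set j := N.hom.appTop.hom
  have hp : ∀ x ∈ RingHom.ker en.left.appTop.hom, ∀ g, g ≠ 1 →
      ∃ s, s ∉ p ∧ j s * (ψ x).coeff g ∈ p.map j := by
    intro b _ g hg
    obtain ⟨L, _, π, hπ0, hπ1, hπker⟩ := exists_fibre_ring j p
    suffices h2 : π ((ψ b).coeff g) = 0 by
      obtain ⟨s, hs, hmem⟩ := hπker _ h2
      exact ⟨s, hs, hmem⟩
    let C := MonoidAlgebra L (Multiplicative M)
    let jC : Γ(N.left, ⊤) →+* C := MonoidAlgebra.singleOneRingHom.comp π
    let χ : Multiplicative M →* C := MonoidAlgebra.of _ _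
    obtain ⟨φK, hφK⟩ := exists_frac_factor (jC.comp j) p
      (fun r hr ↦ by
        show MonoidAlgebra.singleOneRingHom (π (j r)) = 0
        rw [hπ0 r hr, map_zero])
      (fun r hr ↦ (hπ1 r hr).map MonoidAlgebra.singleOneRingHom)
    let ιK : Γ(T, ⊤) →+* FractionRing (Γ(T, ⊤) ⧸ p) :=
      (algebraMap _ _).comp (Ideal.Quotient.mk p)
    let x := Spec.map (CommRingCat.ofHom ιK) ≫ T.isoSpec.inv
    have htriv : TrivOn (commMap v) (Over.mk x) := by
      refine h0 _ ιK ?_
      refine Eq.trans ?_ (Ideal.mk_ker (I := p))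
      exact RingHom.ker_comp_of_injective _ (IsFractionRing.injective _ _)
    have hw : Spec.map (CommRingCat.ofHom φK) ≫ x = (mkT C jC).hom := by
      rw [← Spec.map_comp_assoc, ← CommRingCat.ofHom_comp, hφK, CommRingCat.ofHom_comp,
        Spec.map_comp_assoc]
      show _ = Spec.map (CommRingCat.ofHom jC) ≫ N.left.isoSpec.inv ≫ N.hom
      rw [← Scheme.isoSpec_inv_naturality]
      rfl
    have hfix : lift (hT C jC χ) (yT C jC) ≫ act = yT C jC := by
      rw [← cancel_mono (jN ≫ w), Category.assoc, hact, lift_whiskerLeft_assoc]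
      exact (trivOn_conj_iff v).1 htriv _ (Over.homMk (Spec.map (CommRingCat.ofHom φK)) hw) _ _
    have h := hψ _ (hT C jC χ) (yT C jC)
    rw [hfix, ptEv_hT, yT_appTop] at h
    have h' : jC b = ev jC χ (ψ b) := (ΓT_bijective C jC).1 (RingHom.congr_fun h b)
    have hmap : ev jC χ = MonoidAlgebra.mapRingHom _ π := by
      refine MonoidAlgebra.ringHom_ext (fun r ↦ ?_) (fun a ↦ ?_)
      · simp [ev_single, jC, χ, MonoidAlgebra.single_mul_single]
        exact (MonoidAlgebra.mapRingHom_single _ _ _).symm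
      · simp [ev_single, jC, χ, MonoidAlgebra.single_mul_single]
        rw [MonoidAlgebra.mapRingHom_single, map_one]; rfl
    rw [hmap] at h'
    rw [← MonoidAlgebra.coeff_mapRingHom, ← h']
    show (MonoidAlgebra.single (1 : Multiplicative M) (π b) : C).coeff g = 0
    simp [MonoidAlgebra.coeff_single, hg]
  obtain ⟨y', rfl⟩ := exists_factor_nbhd eW y (1 + 1) hy
  have hjr : ∀ r, y'.left.appTop.hom (j r) = Z.hom.appTop.hom r := fun r ↦ by
    rw [← RingHom.comp_apply, ← CommRingCat.hom_comp, ← Scheme.Hom.comp_appTop, Over.w y']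
  have hann : ∀ r ∈ p, ∀ c ∈ RingHom.ker en.left.appTop.hom,
      Z.hom.appTop.hom r * y'.left.appTop.hom c = 0 := by
    intro r hr c hc
    obtain ⟨b, rfl⟩ := nbhdι_appTop_surjective eW (1 + 1) c
    have hb : b ∈ augIdeal eW := by
      show eW.left.appTop.hom b = 0
      rw [← hen, Over.comp_left, Scheme.Hom.comp_appTop]
      exact hc
    have e := hyp r hr b hb
    rw [Over.comp_left, Scheme.Hom.comp_appTop] at e
    exact e
  have hzero : ∀ c ∈ p.map j, y'.left.appTop.hom (c - j (en.left.appTop.hom c)) = 0 := by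
    intro c hc
    have key : ∀ a, y'.left.appTop.hom (a * c - j (en.left.appTop.hom (a * c))) = 0 := by
      induction hc using Submodule.span_induction with
      | mem c hc =>
        obtain ⟨r, hr, rfl⟩ := hc
        intro a
        rw [map_mul en.left.appTop.hom, hsec, map_mul j, ← sub_mul, map_mul, hjr, mul_comm]
        exact hann r hr _ (sub_mem_ker j en.left.appTop.hom hsec a)
      | zero => intro a; rw [MulZeroClass.mul_zero, map_zero en.left.appTop.hom, map_zero j, sub_zero, map_zero]
      | add c d _ _ hc hd =>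
        intro a
        rw [mul_add, map_add, map_add, add_sub_add_comm, map_add, hc, hd, add_zero]
      | smul b c _ hc =>
        intro a
        rw [smul_eq_mul, ← _root_.mul_assoc]
        exact hc (a * b)
    simpa using key 1
  have hfix : lift h y' ≫ act = y' := by
    refine Over.OverMorphism.ext (ext_of_isAffine (CommRingCat.hom_ext ?_))
    rw [hψ]
    refine RingHom.ext fun c ↦ ?_
    rw [RingHom.comp_apply, ptEv]
    refine ev_eq_of_coeff_eq_zero ψ j hj en.left.appTop.hom hsec hone _ _ (fun x hx g hg ↦ ?_) c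
    obtain ⟨s, hs, hmem⟩ := hp x hx g hg
    have e := hzero _ hmem
    rw [map_mul en.left.appTop.hom, show en.left.appTop.hom ((ψ x).coeff g) = 0 from hstab x hx g,
      MulZeroClass.mul_zero, map_zero, sub_zero, map_mul, hjr] at e
    exact (hu s hs).mul_right_eq_zero.1 e
  calc lift h ((y' ≫ jN) ≫ w) ≫ conjMor v
      = (lift h y' ≫ act) ≫ jN ≫ w := by
        rw [Category.assoc (lift h y'), hact, lift_whiskerLeft_assoc, Category.assoc]
    _ = (y' ≫ jN) ≫ w := by rw [hfix, Category.assoc]

end Groth.Reductive.CentralEq
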