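import Mathlib.AlgebraicGeometry.Morphisms.Immersion
import Mathlib.AlgebraicGeometry.Morphisms.FinitePresentation
import Mathlib.RingTheory.FinitePresentation
import Groth.Agent.Reductive.TrivialActionDescent

/-!
An immersion of finite presentation into an affine scheme which is an isomorphism over a localisation
of the base is one over a basic open of it.
-/

set_option autoImplicit false
universe u

open CategoryTheory AlgebraicGeometry
open Groth.Reductive.FreeDiag

noncomputable section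

namespace Groth.Reductive.CentralEq

/-- Factorisation through an immersion of finite presentation spreads out from a localisation. -/
theorem exists_basicOpen_factor {A X : Scheme.{u}} [IsAffine X] (k : A ⟶ X) [IsImmersion k]
    [LocallyOfFinitePresentation k] {R : Type u} [CommRing R] (j : R →+* Γ(X, ⊤)) (p : Ideal R)
    [p.IsPrime]
    (h : ∃ l : Spec (CommRingCat.of (Localization (p.primeCompl.map j.toMonoidHom))) ⟶ A,
      l ≫ k = Spec.map (CommRingCat.ofHom (algebraMap Γ(X, ⊤) _)) ≫ X.isoSpec.inv) :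
    ∃ s, s ∉ p ∧ ∃ l : (X.basicOpen (j s) : Scheme.{u}) ⟶ A, l ≫ k = (X.basicOpen (j s)).ι := by
  classical
  set Sm := p.primeCompl.map j.toMonoidHom
  set L := Localization Sm
  set q := Spec.map (CommRingCat.ofHom (algebraMap Γ(X, ⊤) L)) ≫ X.isoSpec.inv
  obtain ⟨l₀, hl₀⟩ := h
  -- a basic open inside the coborder
  let F : Set (PrimeSpectrum Γ(X, ⊤)) :=
    X.isoSpec.hom.homeomorph '' (k.coborderRange : Set X)ᶜ
  have hF : IsClosed F :=
    X.isoSpec.hom.homeomorph.isClosedMap _ k.coborderRange.isOpen.isClosed_compl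
  let I : Ideal Γ(X, ⊤) := PrimeSpectrum.vanishingIdeal F
  obtain ⟨s, hs, hsI⟩ : ∃ s, s ∉ p ∧ j s ∈ I := by
    by_contra! hne
    have hdisj : Disjoint (I : Set Γ(X, ⊤)) (Sm : Set Γ(X, ⊤)) := by
      rw [Set.disjoint_left]
      rintro _ hx ⟨s, hs, rfl⟩
      exact hne s hs hx
    obtain ⟨P, hP, hIP, hPS⟩ := Ideal.exists_le_prime_disjoint I Sm hdisj
    have hmem : (⟨P, hP⟩ : PrimeSpectrum Γ(X, ⊤)) ∈ F := by
      rw [← hF.closure_eq, ← PrimeSpectrum.zeroLocus_vanishingIdeal_eq_closure,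
        PrimeSpectrum.mem_zeroLocus]
      exact hIP
    obtain ⟨z, hz, hzP⟩ := hmem
    let Q : PrimeSpectrum L := ⟨P.map (algebraMap Γ(X, ⊤) L),
      IsLocalization.isPrime_of_isPrime_disjoint Sm L P hP hPS.symm⟩
    have hQ : Spec.map (CommRingCat.ofHom (algebraMap Γ(X, ⊤) L)) Q = X.isoSpec.hom z := by
      refine Eq.trans ?_ hzP.symm
      exact PrimeSpectrum.ext (IsLocalization.comap_map_of_isPrime_disjoint Sm L hP hPS.symm)
    have hqQ : q Q = z := by
      rw [Scheme.Hom.comp_apply, hQ]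
      exact congrArg (fun f : X ⟶ X ↦ f.base z) X.isoSpec.hom_inv_id
    refine hz ?_
    rw [← hqQ, ← hl₀, Scheme.Hom.comp_apply]
    exact subset_coborder (Set.mem_range_self _)
  have hsU : X.basicOpen (j s) ≤ k.coborderRange := by
    intro z hz
    by_contra hn
    have h1 : X.isoSpec.hom.homeomorph z ∈ F := ⟨z, hn, rfl⟩
    have h2 : X.isoSpec.hom.homeomorph z ∈ PrimeSpectrum.zeroLocus (I : Set Γ(X, ⊤)) :=
      PrimeSpectrum.subset_zeroLocus_vanishingIdeal F h1
    have hz' : z ∈ X.isoSpec.hom ⁻¹ᵁ PrimeSpectrum.basicOpen (j s) := by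
      rw [Scheme.isoSpec_hom]
      exact (Scheme.toSpecΓ_preimage_basicOpen X (j s)).symm ▸ hz
    exact hz' (h2 hsI)
  -- over it the immersion is closed
  let X₁ := X.basicOpen (j s)
  have hX₁ : IsAffineOpen X₁ := (isAffineOpen_top X).basicOpen (j s)
  haveI : IsAffine (X₁ : Scheme.{u}) := hX₁
  let k₁ := k ∣_ X₁
  haveI : IsImmersion k₁ := IsZariskiLocalAtTarget.restrict ‹IsImmersion k› X₁
  haveI : LocallyOfFinitePresentation k₁ :=
    IsZariskiLocalAtTarget.restrict ‹LocallyOfFinitePresentation k› X₁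
  haveI : IsClosedImmersion k₁ := by
    refine IsClosedImmersion.of_isPreimmersion _ ?_
    have e : Set.range k₁ = X₁.ι ⁻¹' closure (Set.range k) := by
      refine subset_antisymm ?_ fun z hz ↦ ?_
      · rintro _ ⟨a, rfl⟩
        refine subset_closure ⟨(k ⁻¹ᵁ X₁).ι a, ?_⟩
        rw [← Scheme.Hom.comp_apply, ← Scheme.Hom.comp_apply, morphismRestrict_ι]
      · obtain ⟨a, ha⟩ : X₁.ι z ∈ Set.range k := by
          by_contra hn
          exact hsU z.2 ⟨hz, hn⟩
        refine ⟨⟨a, show k a ∈ X₁ from ha ▸ z.2⟩, X₁.ι.isOpenEmbedding.injective ?_⟩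
        rw [← Scheme.Hom.comp_apply, morphismRestrict_ι]
        exact ha
    rw [e]
    exact isClosed_closure.preimage X₁.ι.continuous
  have hfg : (RingHom.ker k₁.appTop.hom).FG := by
    haveI : IsAffine (k ⁻¹ᵁ X₁ : Scheme.{u}) := isAffine_of_isAffineHom k₁
    letI := k₁.appTop.hom.toAlgebra
    haveI : Algebra.FinitePresentation Γ((X₁ : Scheme.{u}), ⊤) Γ((k ⁻¹ᵁ X₁ : Scheme.{u}), ⊤) :=
      k₁.finitePresentation_appTop
    exact Algebra.FinitePresentation.ker_fG_of_surjective (Algebra.ofId _ _)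
      (k₁.app_surjective ⊤ (isAffineOpen_top _))
  -- the localisation lies over it
  have hqX : Set.range q ⊆ Set.range X₁.ι := by
    rw [Scheme.Opens.range_ι]
    rintro _ ⟨Q, rfl⟩
    have hu : IsUnit (algebraMap Γ(X, ⊤) L (j s)) :=
      IsLocalization.map_units L (⟨j s, ⟨s, hs, rfl⟩⟩ : Sm)
    show Q ∈ q ⁻¹ᵁ X.basicOpen (j s)
    rw [Scheme.Hom.comp_preimage, ← Scheme.toSpecΓ_preimage_basicOpen X (j s), ← Scheme.isoSpec_hom,
      ← Scheme.Hom.comp_preimage _ X.isoSpec.hom, Iso.inv_hom_id]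
    exact fun hQ ↦ (Q : PrimeSpectrum L).2.ne_top (Ideal.eq_top_of_isUnit_mem _ hQ hu)
  let q₁ := IsOpenImmersion.lift X₁.ι q hqX
  have hq₁ : q₁ ≫ X₁.ι = q := IsOpenImmersion.lift_fac _ _ _
  have hq₁k : ∃ l₁, l₁ ≫ k₁ = q₁ := by
    have hr : Set.range l₀ ⊆ Set.range (k ⁻¹ᵁ X₁).ι := by
      rw [Scheme.Opens.range_ι]
      rintro _ ⟨Q, rfl⟩
      show k (l₀ Q) ∈ X₁
      rw [← Scheme.Hom.comp_apply, hl₀, ← hq₁, Scheme.Hom.comp_apply]
      exact (q₁ Q).2
    refine ⟨IsOpenImmersion.lift (k ⁻¹ᵁ X₁).ι l₀ hr, ?_⟩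
    rw [← cancel_mono X₁.ι, Category.assoc, morphismRestrict_ι, IsOpenImmersion.lift_fac_assoc,
      hl₀, hq₁]
  obtain ⟨l₁, hl₁⟩ := hq₁k
  have hqa : ∀ a, q.appTop.hom a = 0 → algebraMap Γ(X, ⊤) L a = 0 := by
    intro a ha
    have : q.appTop.hom a = (Scheme.ΓSpecIso (CommRingCat.of L)).inv (algebraMap Γ(X, ⊤) L a) := by
      have e := ConcreteCategory.congr_hom
        (Scheme.ΓSpecIso_inv_naturality (CommRingCat.ofHom (algebraMap Γ(X, ⊤) L))) a
      refine Eq.trans ?_ e.symm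
      show (Spec.map (CommRingCat.ofHom (algebraMap Γ(X, ⊤) L))).appTop (X.isoSpec.inv.appTop a) = _
      have e2 : X.isoSpec.inv.appTop = (Scheme.ΓSpecIso Γ(X, ⊤)).inv := by
        rw [← cancel_epi (Scheme.ΓSpecIso Γ(X, ⊤)).hom, Iso.hom_inv_id,
          ← Scheme.toSpecΓ_appTop, ← Scheme.isoSpec_hom, ← Scheme.Hom.comp_appTop, Iso.inv_hom_id]
        rfl
      exact congrArg (Spec.map (CommRingCat.ofHom (algebraMap Γ(X, ⊤) L))).appTop
        (ConcreteCategory.congr_hom e2 a)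
    rw [this] at ha
    exact (map_eq_zero_iff _
      (ConcreteCategory.bijective_of_isIso (Scheme.ΓSpecIso (CommRingCat.of L)).inv).1).1 ha
  have hkillOne : ∀ c ∈ RingHom.ker k₁.appTop.hom,
      ∃ s', s' ∉ p ∧ X₁.ι.appTop.hom (j s') * c = 0 := by
    intro c hc
    have hc0 : q₁.appTop.hom c = 0 := by
      rw [← hl₁, Scheme.Hom.comp_appTop, CommRingCat.hom_comp, RingHom.comp_apply,
        show k₁.appTop.hom c = 0 from hc, map_zero]
    haveI := (isAffineOpen_top X).isLocalization_basicOpen (j s)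
    obtain ⟨⟨a, _, n, rfl⟩, e⟩ := IsLocalization.surj (Submonoid.powers (j s))
      ((X₁.topIso).hom c)
    have hres : ∀ b, X₁.ι.appTop.hom b =
        (X₁.topIso).inv (algebraMap Γ(X, ⊤) Γ(X, X.basicOpen (j s)) b) := fun b ↦ by
      rw [Scheme.Opens.ι_appTop, Scheme.Opens.topIso_inv]
      show _ = (X.presheaf.map (homOfLE (X.basicOpen_le (j s))).op ≫ X.presheaf.map _) b
      rw [← Functor.map_comp]
      rfl
    have e1 : c * X₁.ι.appTop.hom (j s ^ n) = X₁.ι.appTop.hom a := by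
      rw [hres, hres]
      apply (ConcreteCategory.bijective_of_isIso (X₁.topIso).hom).1
      rw [map_mul, CategoryTheory.Iso.inv_hom_id_apply, CategoryTheory.Iso.inv_hom_id_apply]
      exact e
    have ha : algebraMap Γ(X, ⊤) L a = 0 := hqa a (by
      rw [← hq₁, Scheme.Hom.comp_appTop, CommRingCat.hom_comp, RingHom.comp_apply, ← e1, map_mul,
        hc0, zero_mul])
    obtain ⟨⟨_, s', hs', rfl⟩, hσ⟩ := (IsLocalization.map_eq_zero_iff Sm L a).1 ha
    refine ⟨s', hs', ?_⟩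
    have hu : IsUnit (X₁.ι.appTop.hom (j s ^ n)) := by
      rw [hres]
      refine IsUnit.map _ ?_
      exact IsLocalization.map_units Γ(X, X.basicOpen (j s))
        (⟨j s ^ n, n, rfl⟩ : Submonoid.powers (j s))
    refine hu.mul_left_eq_zero.1 ?_
    rw [mul_assoc, e1, ← map_mul]
    show X₁.ι.appTop.hom (j s' * a) = 0
    rw [show j s' * a = 0 from hσ, map_zero]
  obtain ⟨t, ht⟩ := hfg
  choose sf hsf hsfk using fun c : t ↦ hkillOne c (ht.le (Submodule.subset_span c.2))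
  let s' := ∏ c : t, sf c
  have hs' : s' ∉ p := fun h ↦ by
    obtain ⟨c, -, hc⟩ := (Ideal.IsPrime.prod_mem_iff (hp := ‹p.IsPrime›)).mp h
    exact hsf c hc
  have hkill : ∀ c ∈ RingHom.ker k₁.appTop.hom, X₁.ι.appTop.hom (j s') * c = 0 := by
    intro c hc
    rw [← ht] at hc
    induction hc using Submodule.span_induction with
    | mem c hc =>
      rw [show s' = (∏ b ∈ Finset.univ.erase (⟨c, hc⟩ : t), sf b) * sf ⟨c, hc⟩ from
        (Finset.prod_erase_mul _ _ (Finset.mem_univ _)).symm, map_mul, map_mul, mul_assoc,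
        show X₁.ι.appTop.hom (j (sf ⟨c, hc⟩)) * c = 0 from hsfk ⟨c, hc⟩, mul_zero]
    | zero => rw [mul_zero]
    | add a b _ _ ha hb => rw [mul_add, ha, hb, add_zero]
    | smul a c _ hc => rw [smul_eq_mul, mul_left_comm, hc, mul_zero]
  refine ⟨s * s', fun h ↦ (Ideal.IsPrime.mem_or_mem ‹_› h).elim hs hs', ?_⟩
  let X₂ := X.basicOpen (j (s * s'))
  have hle : X₂ ≤ X₁ := by
    show X.basicOpen (j (s * s')) ≤ _
    rw [map_mul, Scheme.basicOpen_mul]
    exact inf_le_left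
  have hle' : X₂ ≤ X.basicOpen (j s') := by
    show X.basicOpen (j (s * s')) ≤ _
    rw [map_mul, Scheme.basicOpen_mul]
    exact inf_le_right
  let m := X.homOfLE hle
  have hu : IsUnit (m.appTop.hom (X₁.ι.appTop.hom (j s'))) := by
    rw [← RingHom.comp_apply, ← CommRingCat.hom_comp, ← Scheme.Hom.comp_appTop, Scheme.homOfLE_ι]
    refine (X₂ : Scheme.{u}).toRingedSpace.isUnit_of_isUnit_germ ⊤ _ fun z _ ↦ ?_
    refine (Scheme.mem_basicOpen_top _ _ z).mp ?_
    show z ∈ (X₂ : Scheme.{u}).basicOpen (X₂.ι.appTop (j s'))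
    rw [← Scheme.preimage_basicOpen_top]
    exact hle' z.2
  obtain ⟨l, hl⟩ := exists_lift_of_appTop_ker k₁ m fun c hc ↦ by
    refine hu.mul_right_eq_zero.1 ?_
    rw [← map_mul, hkill c hc, map_zero]
  exact ⟨l ≫ (k ⁻¹ᵁ X₁).ι, by
    rw [Category.assoc, ← morphismRestrict_ι, ← Category.assoc, hl, Scheme.homOfLE_ι]⟩

end Groth.Reductive.CentralEq
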