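import Groth.Agent.Reductive.CentralEq.Local
import Groth.Agent.Reductive.CentralEq.Fixed
import Groth.Agent.Reductive.CentralEq.Spread
import Groth.Agent.Reductive.MTLocTriv
import Groth.Agent.AlgSp2.FiniteMor

/-!
A subgroup of multiplicative type which is central at a point and lies in another one there does so
near that point.
-/

set_option autoImplicit false
set_option backward.isDefEq.respectTransparency false
universe u

open CategoryTheory MonoidalCategory CartesianMonoidalCategory MonObj GrpObj AlgebraicGeometry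
open Groth.Reductive.FreeDiag Groth.Reductive.CentralNhd

noncomputable section

namespace Groth.Reductive.CentralEq

attribute [local instance] algΓ'

variable {S : Scheme.{u}} {G H₁ H₂ : Over S} [GrpObj G] [GrpObj H₁] [GrpObj H₂]

set_option maxHeartbeats 1000000 in
set_option synthInstance.maxHeartbeats 200000 in
/-- Finite presentation of agreement subschemes from that of the universal one. -/
lemma lfp_kMor (i₁ : H₁ ⟶ G) (i₂ : H₂ ⟶ G) {T : Scheme.{u}} (g : T ⟶ S) {M : Type} [AddCommGroup M]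
    (a₁ : Red.DS T M ⟶ Red.bc g H₁) (a₂ : Red.DS T M ⟶ Red.bc g H₂) (P : Over T)
    [LocallyOfFinitePresentation
      (Limits.pullback.fst ((fst H₁ H₂ ≫ i₁) * (snd H₁ H₂ ≫ i₂)⁻¹).left η[G].left)] :
    LocallyOfFinitePresentation
      (kMor (a₁ ≫ (Over.pullback g).map i₁) (a₂ ≫ (Over.pullback g).map i₂) P) := by
  let u := (fst H₁ H₂ ≫ i₁) * (snd H₁ H₂ ≫ i₂)⁻¹
  let e := eMor (a₁ ≫ (Over.pullback g).map i₁) (a₂ ≫ (Over.pullback g).map i₂) P
  let j : (Over.map g).obj (Red.DS T M ⊗ P) ⟶ H₁ ⊗ H₂ :=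
    lift (qPt g (fst (Red.DS T M) P ≫ a₁)) (qPt g (fst (Red.DS T M) P ≫ a₂))
  have hju : qPt g e = j ≫ u := by
    rw [MonObj.comp_mul, GrpObj.comp_inv, lift_fst_assoc, lift_snd_assoc, ← qPt_map, ← qPt_map,
      Category.assoc, Category.assoc]
    show bcPointEquiv g G _ ((fst (Red.DS T M) P ≫ a₁ ≫ (Over.pullback g).map i₁) *
      (fst (Red.DS T M) P ≫ a₂ ≫ (Over.pullback g).map i₂)⁻¹) = _
    rw [map_mul, map_inv]
    rfl
  have hη := one_bc_left (G := G) g
  have sq : IsPullback η[Red.bc g G].left g (Limits.pullback.fst G.hom g) η[G].left := by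
    refine IsPullback.of_right ?_ hη (IsPullback.of_hasPullback G.hom g).flip
    rw [show η[Red.bc g G].left ≫ Limits.pullback.snd G.hom g = 𝟙 T from Over.w η[Red.bc g G],
      show η[G].left ≫ G.hom = 𝟙 S from Over.w η[G]]
    show IsPullback (𝟙 T) g g (𝟙 S)
    exact IsPullback.of_horiz_isIso ⟨by simp⟩
  have he : e.left ≫ Limits.pullback.fst G.hom g = j.left ≫ u.left := by
    rw [← Over.comp_left, ← hju]
    simp [qPt, Adjunction.homEquiv_counit]
  have sq' := (IsPullback.of_hasPullback e.left η[Red.bc g G].left).flip.paste_horiz sq.flip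
  haveI : LocallyOfFinitePresentation (Limits.pullback.fst (j.left ≫ u.left) η[G].left) := by
    rw [← Limits.pullbackRightPullbackFstIso_inv_fst u.left η[G].left j.left]
    infer_instance
  rw [he] at sq'
  show LocallyOfFinitePresentation (Limits.pullback.fst e.left η[Red.bc g G].left)
  rw [← sq'.flip.isoPullback_hom_fst]
  infer_instance

/-- Agreement over a local scheme on a chart. -/
theorem eqOn_stalk {T : Scheme.{u}} [IsAffine T] {GT : Over T} [GrpObj GT] {WT : Over T}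
    [IsAffine WT.left] (w : WT ⟶ GT) (eW : 𝟙_ (Over T) ⟶ WT) [IsOpenImmersion w.left]
    (heW : eW ≫ w = η[GT]) {M : Type} [AddCommGroup M] [AddGroup.FG M] (x : T)
    (v₁ : Red.DS T M ⟶ GT) [IsMonHom v₁]
    (hc : TrivOn (commMap v₁) (Over.mk (T.fromSpecResidueField x))) :
    ∃ (K : Type u) (_ : Field K) (x₀ : Spec (CommRingCat.of K) ⟶ T),
      x₀.base (IsLocalRing.closedPoint K) = x ∧
      ∀ (v₂ : Red.DS T M ⟶ GT) [IsMonHom v₂]
        [LocallyOfFinitePresentation (kMor v₁ v₂ (Over.mk (T.fromSpecStalk x)))],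
        EqOn v₁ v₂ (Over.mk x₀) → EqOn v₁ v₂ (Over.mk (T.fromSpecStalk x)) := by
  let P : Over T := Over.mk (T.fromSpecStalk x)
  haveI : IsAffine P.left := inferInstanceAs (IsAffine (Spec _))
  let R := Γ(P.left, ⊤)
  haveI : IsLocalRing R := (Scheme.ΓSpecIso (T.presheaf.stalk x)).commRingCatIsoToRingEquiv.symm.isLocalRing
  let m := IsLocalRing.maximalIdeal R
  let p : Ideal Γ(T, ⊤) := (T.isoSpec.hom x).asIdeal
  have hp : m.comap P.hom.appTop.hom = p := by
    ext r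
    have e : P.hom.appTop.hom r =
        (Scheme.ΓSpecIso (T.presheaf.stalk x)).inv (T.presheaf.germ ⊤ x trivial r) := by
      show (T.fromSpecStalk x).appTop r = _
      rw [Scheme.fromSpecStalk_appTop]
      simp only [CommRingCat.comp_apply]
      rw [show (homOfLE (le_top : (⊤ : (Spec (T.presheaf.stalk x)).Opens) ≤ ⊤)).op = 𝟙 _ from rfl,
        CategoryTheory.Functor.map_id]
      rfl
    have hb : r ∈ p ↔ x ∉ T.basicOpen r := by
      rw [show T.basicOpen r = T.isoSpec.hom ⁻¹ᵁ PrimeSpectrum.basicOpen r by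
        rw [Scheme.isoSpec_hom]; exact (Scheme.toSpecΓ_preimage_basicOpen T r).symm]
      exact not_not.symm
    rw [Ideal.mem_comap, IsLocalRing.mem_maximalIdeal, mem_nonunits_iff, e, hb,
      Scheme.mem_basicOpen_top]
    refine not_congr ⟨fun h ↦ ?_, fun h ↦ h.map _⟩
    exact (isUnit_map_iff (Scheme.ΓSpecIso (T.presheaf.stalk x)).commRingCatIsoToRingEquiv.symm _).1 h
  have himg : ∀ (K : Type u) [Field K] (ιK : Γ(T, ⊤) →+* K), RingHom.ker ιK = p →
      (Spec.map (CommRingCat.ofHom ιK) ≫ T.isoSpec.inv).base (IsLocalRing.closedPoint K) = x := by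
    intro K _ ιK hK
    rw [Scheme.Hom.comp_apply]
    have e : Spec.map (CommRingCat.ofHom ιK) (IsLocalRing.closedPoint _) = T.isoSpec.hom x := by
      refine PrimeSpectrum.ext ?_
      show Ideal.comap ιK (IsLocalRing.maximalIdeal _) = p
      rw [IsLocalRing.maximalIdeal_eq_bot, ← RingHom.ker_eq_comap_bot]
      exact hK
    rw [e]
    exact congrArg (fun f : T ⟶ T ↦ f.base x) T.isoSpec.hom_inv_id
  haveI : p.IsPrime := (T.isoSpec.hom x).2
  letI : Field (R ⧸ m) := Ideal.Quotient.field m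
  let ι₀ : Γ(T, ⊤) →+* R ⧸ m := (Ideal.Quotient.mk m).comp P.hom.appTop.hom
  let x₀ := Spec.map (CommRingCat.ofHom ι₀) ≫ T.isoSpec.inv
  refine ⟨R ⧸ m, inferInstance, x₀, himg _ ι₀ ?_, fun v₂ _ _ h0 ↦ ?_⟩
  · rw [← RingHom.comap_ker, Ideal.mk_ker]
    exact hp
  have hw : (mkT (Y := P) (R ⧸ m) (Ideal.Quotient.mk m)).hom = x₀ := by
    show Spec.map (CommRingCat.ofHom (Ideal.Quotient.mk m)) ≫ P.left.isoSpec.inv ≫ P.hom = _
    rw [← Scheme.isoSpec_inv_naturality, ← Spec.map_comp_assoc]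
    rfl
  exact eqOn_local v₁ v₂ P w eW heW p hp
    (fun Z hu h y hy hy' ↦ fixed_of_kills w eW heW v₁ p (fun K _ ιK hK ↦ by
      rw [trivOn_fieldPoint_iff', himg K ιK hK]
      exact hc) Z hu h y hy hy')
    (h0.of_hom (Over.homMk (𝟙 _) ((Category.id_comp _).trans hw.symm)))

/-- Near a point where the first subgroup is central and lies in the second, it lies in it. -/
theorem exists_facOn_nhd (hG : IsLocallyNoetherian S ∨ LocallyOfFinitePresentation G.hom)
    (h₁ : SGA3x.IsMultTypeFT H₁) (h₂ : SGA3x.IsMultTypeFT H₂) (i₁ : H₁ ⟶ G) [IsMonHom i₁]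
    [IsImmersion i₁.left] (i₂ : H₂ ⟶ G) [IsMonHom i₂] [IsImmersion i₂.left] (s : S)
    (hc : TrivOn (commMap i₁) (Over.mk (S.fromSpecResidueField s)))
    (hfac : FacOn i₁ i₂ (Over.mk (S.fromSpecResidueField s))) :
    ∃ V : S.Opens, s ∈ V ∧ FacOn i₁ i₂ (Over.mk V.ι) := by
  haveI : Mono i₁.left := inferInstance
  haveI : Mono i₂.left := inferInstance
  haveI : Mono i₂ := Over.mono_of_mono_left i₂
  haveI hlfp₁ : LocallyOfFinitePresentation H₁.hom :=
    (flat_lfp_of_multTypeFT H₁ h₁ Groth.AlgSp2.flat_descendsAlong inferInstance).2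
  haveI hlfp₂ : LocallyOfFinitePresentation H₂.hom :=
    (flat_lfp_of_multTypeFT H₂ h₂ Groth.AlgSp2.flat_descendsAlong inferInstance).2
  haveI hlfpu : LocallyOfFinitePresentation
      (Limits.pullback.fst ((fst H₁ H₂ ≫ i₁) * (snd H₁ H₂ ≫ i₂)⁻¹).left η[G].left) := by
    rcases hG with hS | hG
    · haveI : LocallyOfFiniteType (H₁ ⊗ H₂).hom :=
        inferInstanceAs (LocallyOfFiniteType (Limits.pullback.fst H₁.hom H₂.hom ≫ H₁.hom))
      haveI : IsLocallyNoetherian (H₁ ⊗ H₂).left :=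
        LocallyOfFiniteType.isLocallyNoetherian (H₁ ⊗ H₂).hom
      haveI : IsImmersion (η[G].left ≫ G.hom) := by
        rw [show η[G].left ≫ G.hom = 𝟙 S from Over.w η[G]]
        exact MorphismProperty.id_mem @IsImmersion S
      haveI : IsImmersion η[G].left := IsImmersion.of_comp η[G].left G.hom
      haveI : IsImmersion (Limits.pullback.fst
          ((fst H₁ H₂ ≫ i₁) * (snd H₁ H₂ ≫ i₂)⁻¹).left η[G].left) :=
        MorphismProperty.pullback_fst _ _ ‹_›
      exact Groth.AlgSp2.lfp_of_isLocallyNoetherian _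
    · haveI : LocallyOfFinitePresentation (η[G].left ≫ G.hom) := by
        rw [show η[G].left ≫ G.hom = 𝟙 S from Over.w η[G]]
        exact locallyOfFinitePresentation_of_isOpenImmersion (𝟙 _)
      haveI := Groth.PropsBasic2.lfp_of_comp η[G].left G.hom
      exact MorphismProperty.pullback_fst _ _ ‹_›
  obtain ⟨S₀, hS₀, hsS₀, -⟩ := exists_isAffineOpen_mem_and_subset (x := s) (U := (⊤ : S.Opens))
    trivial
  haveI : IsAffine (S₀ : Scheme.{u}) := hS₀
  let s₀ : (S₀ : Scheme.{u}) := ⟨s, hsS₀⟩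
  let P₀ : Over S := Over.mk ((S₀ : Scheme.{u}).fromSpecStalk s₀ ≫ S₀.ι)
  -- over the local ring
  have hloc : FacOn i₁ i₂ P₀ := by
    obtain ⟨S₁, f₁, hflat₁, hsurj₁, hqc₁, hloc₁⟩ := h₁
    obtain ⟨S₂, f₂, hflat₂, hsurj₂, hqc₂, hloc₂⟩ := h₂
    haveI := hflat₁
    haveI := hsurj₁
    haveI := hflat₂
    haveI := hsurj₂
    let p₁ := Limits.pullback.fst f₁ f₂
    let p₂ := Limits.pullback.snd f₁ f₂
    let f := p₁ ≫ f₁
    haveI : Surjective f := inferInstanceAs (Surjective (p₁ ≫ f₁))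
    obtain ⟨x, hx⟩ := f.surjective s
    obtain ⟨U₁, hxU₁, M₁, _, hM₁, ⟨e₁⟩⟩ := hloc₁ (p₁ x)
    obtain ⟨U₂, hxU₂, M₂, _, -, ⟨e₂⟩⟩ := hloc₂ (p₂ x)
    obtain ⟨W, hW, hxW, hWS⟩ := exists_isAffineOpen_mem_and_subset
      (x := η[G].left s) (U := G.hom ⁻¹ᵁ S₀) (by
        show G.hom (η[G].left s) ∈ S₀
        rw [← Scheme.Hom.comp_apply, Over.w η[G]]
        exact hsS₀)
    obtain ⟨T, hT, hxT, hTU⟩ := exists_isAffineOpen_mem_and_subset
      (U := p₁ ⁻¹ᵁ U₁ ⊓ p₂ ⁻¹ᵁ U₂ ⊓ (f ⁻¹ᵁ S₀ ⊓ f ⁻¹ᵁ (η[G].left ⁻¹ᵁ W)))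
      (x := x) ⟨⟨hxU₁, hxU₂⟩, by show f x ∈ S₀; rw [show f x = s from hx]; exact hsS₀,
        by show η[G].left (f x) ∈ W; rw [show f x = s from hx]; exact hxW⟩
    haveI : IsAffine (T : Scheme.{u}) := hT
    let e₁' : Red.DS (U₁ : Scheme.{u}) M₁ ≅ Red.bc (U₁.ι ≫ f₁) H₁ :=
      ⟨e₁.inv.hom.hom, e₁.hom.hom.hom, congrArg (fun z ↦ z.hom.hom) e₁.inv_hom_id,
        congrArg (fun z ↦ z.hom.hom) e₁.hom_inv_id⟩
    haveI : IsMonHom e₁'.hom := inferInstanceAs (IsMonHom e₁.inv.hom.hom)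
    let e₂' : Red.DS (U₂ : Scheme.{u}) M₂ ≅ Red.bc (U₂.ι ≫ f₂) H₂ :=
      ⟨e₂.inv.hom.hom, e₂.hom.hom.hom, congrArg (fun z ↦ z.hom.hom) e₂.inv_hom_id,
        congrArg (fun z ↦ z.hom.hom) e₂.hom_inv_id⟩
    haveI : IsMonHom e₂'.hom := inferInstanceAs (IsMonHom e₂.inv.hom.hom)
    have hTU₁ : T ≤ p₁ ⁻¹ᵁ U₁ := hTU.trans (inf_le_left.trans inf_le_left)
    have hTU₂ : T ≤ p₂ ⁻¹ᵁ U₂ := hTU.trans (inf_le_left.trans inf_le_right)
    obtain ⟨j₁, hj₁⟩ := exists_trivialisation_comp H₁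
      ((Limits.pullback f₁ f₂).homOfLE hTU₁ ≫ p₁ ∣_ U₁) (U₁.ι ≫ f₁) e₁'
    obtain ⟨j₂, hj₂⟩ := exists_trivialisation_comp H₂
      ((Limits.pullback f₁ f₂).homOfLE hTU₂ ≫ p₂ ∣_ U₂) (U₂.ι ≫ f₂) e₂'
    revert j₁ hj₁ j₂ hj₂
    rw [Category.assoc, morphismRestrict_ι_assoc, Scheme.homOfLE_ι_assoc, Category.assoc,
      morphismRestrict_ι_assoc, Scheme.homOfLE_ι_assoc,
      show p₂ ≫ f₂ = f from Limits.pullback.condition.symm]
    intro j₁ hj₁ j₂ hj₂
    haveI := hj₁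
    haveI := hj₂
    let g := T.ι ≫ f
    obtain ⟨WT, w, eW, hWTa, hw, heW⟩ := exists_affine_chart (G := G) g hS₀ hW hWS fun t ↦
      (hTU t.2).2.2
    let t : (T : Scheme.{u}) := ⟨x, hxT⟩
    have hgt : g t = s := hx
    let v₁ : Red.DS (T : Scheme.{u}) M₁ ⟶ Red.bc g G := j₁.hom ≫ (Over.pullback g).map i₁
    haveI := hM₁
    have hcT : TrivOn (commMap v₁) (Over.mk ((T : Scheme.{u}).fromSpecResidueField t)) := by
      refine (trivOn_bc i₁ g j₁ _).2 ?_
      have h2 : TrivOn (commMap i₁) (Over.mk ((T : Scheme.{u}).fromSpecResidueField t ≫ g)) := by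
        refine (trivOn_fieldPoint_iff' i₁ _ _).2 ?_
        have e : ((T : Scheme.{u}).fromSpecResidueField t ≫ g).base (IsLocalRing.closedPoint _) = s :=
          (congrArg g.base (Scheme.fromSpecResidueField_apply t _)).trans hgt
        exact (congrArg (fun a ↦ TrivOn (commMap i₁) (Over.mk (S.fromSpecResidueField a))) e).mpr hc
      exact h2.of_hom (Over.homMk (𝟙 _) (by simp))
    obtain ⟨K, _, x₀, hx₀, hstalk⟩ := eqOn_stalk w eW heW t v₁ hcT
    have hfacK : FacOn i₁ i₂ (Over.mk (x₀ ≫ g)) := by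
      rw [facOn_fieldPoint_iff, Scheme.Hom.comp_apply, hx₀, hgt]
      exact hfac
    obtain ⟨a, ha⟩ := exists_trivOn_of_facOn g j₁ j₂ K x₀ hfacK
    let a₂ : Red.DS (T : Scheme.{u}) M₁ ⟶ Red.bc g H₂ := dsHom a ≫ j₂.hom
    let v₂ : Red.DS (T : Scheme.{u}) M₁ ⟶ Red.bc g G := a₂ ≫ (Over.pullback g).map i₂
    have hpt : ∀ (W : Over (T : Scheme.{u})) (z : W ⟶ Red.DS (T : Scheme.{u}) M₁),
        (qPt g (z ≫ v₁) = grpVal g j₁ i₁ z) ∧ qPt g (z ≫ v₂) = grpVal g j₂ i₂ (z ≫ dsHom a) :=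
      fun W z ↦ ⟨by rw [grpVal, ← qPt_map, Category.assoc],
        by rw [grpVal, ← qPt_map]; simp only [v₂, a₂, Category.assoc]⟩
    haveI := lfp_kMor i₁ i₂ g j₁.hom a₂ (Over.mk ((T : Scheme.{u}).fromSpecStalk t))
    have h0 : EqOn v₁ v₂ (Over.mk x₀) := fun W w' z ↦ by
      apply qPt_injective g
      rw [(hpt W z).1, (hpt W z).2]
      have e := (trivOn_diffHom_iff g j₁ j₂ _ a).1 ha W w' z
      rwa [dsHom_id, Category.comp_id] at e
    have hP := hstalk v₂ h0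
    have htriv : TrivOn (diffHom i₁ i₂ g j₁ j₂ (AddMonoidHom.id M₁) a)
        (Over.mk ((T : Scheme.{u}).fromSpecStalk t)) := by
      rw [trivOn_diffHom_iff]
      intro W w' z
      rw [dsHom_id, Category.comp_id, ← (hpt W z).1, ← (hpt W z).2, hP W w' z]
    have hfacT := facOn_of_trivOn g j₁ j₂ a htriv
    -- descend
    have hgS : Set.range g ⊆ Set.range S₀.ι := by
      rw [Scheme.Opens.range_ι]
      rintro _ ⟨t, rfl⟩
      exact (hTU t.2).2.1
    let g₀ := IsOpenImmersion.lift S₀.ι g hgS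
    have hg₀ : g₀ ≫ S₀.ι = g := IsOpenImmersion.lift_fac _ _ _
    have hg₀t : g₀ t = s₀ := S₀.ι.isOpenEmbedding.injective (by
      rw [← Scheme.Hom.comp_apply, hg₀]
      exact hgt)
    haveI : Flat g₀ := by
      haveI : Flat (g₀ ≫ S₀.ι) := by rw [hg₀]; infer_instance
      exact MorphismProperty.of_postcomp (W := @Flat) (W' := @IsOpenImmersion) g₀ S₀.ι
        inferInstance inferInstance
    let P₁ : Over S := Over.mk ((S₀ : Scheme.{u}).fromSpecStalk (g₀ t) ≫ S₀.ι)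
    suffices h : FacOn i₁ i₂ P₁ by
      simp only [P₁] at h
      rw [hg₀t] at h
      exact h
    let φ := Spec.map (g₀.stalkMap t)
    haveI : Flat φ := by
      show Flat (Spec.map _)
      rw [Flat.SpecMap_iff]
      exact Flat.stalkMap g₀ t
    haveI : Surjective φ := ⟨by
      algebraize [(g₀.stalkMap t).hom]
      have : Module.FaithfullyFlat ((S₀ : Scheme.{u}).presheaf.stalk (g₀ t))
          ((T : Scheme.{u}).presheaf.stalk t) :=
        @Module.FaithfullyFlat.of_flat_of_isLocalHom _ _ _ _ _ _ _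
          (Flat.stalkMap g₀ t) (g₀.toLRSHom.prop t)
      exact PrimeSpectrum.comap_surjective_of_faithfullyFlat⟩
    let q : (Over.map g).obj (Over.mk ((T : Scheme.{u}).fromSpecStalk t)) ⟶ P₁ := Over.homMk φ (by
      show Spec.map _ ≫ _ ≫ S₀.ι = _ ≫ g
      rw [← Category.assoc, Scheme.SpecMap_stalkMap_fromSpecStalk, Category.assoc, hg₀]
      rfl)
    haveI : Flat q.left := ‹Flat φ›
    haveI : Surjective q.left := ‹Surjective φ›
    haveI : QuasiCompact q.left := inferInstanceAs (QuasiCompact (Spec.map _))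
    exact FacOn.descend q (qcCover_of_quasiCompact q.left) hfacT
  -- spread out
  have hHaff : IsAffineHom H₁.hom := by
    obtain ⟨S', f, hf1, hf2, hf3, hl⟩ := h₁
    exact (Groth.Reductive.MTInt.locTriv_of_locally ⟨S', f, hf1, hf2, hf3, fun x ↦ by
      obtain ⟨U, hU, M, hM, -, e⟩ := hl x
      exact ⟨U, hU, M, hM, e⟩⟩).1
  let Y₀ : Over S := Over.mk S₀.ι
  haveI : IsAffine Y₀.left := ‹IsAffine (S₀ : Scheme.{u})›
  let X := (Y₀ ⊗ H₁).left
  haveI : IsAffine X := by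
    haveI := hHaff
    haveI : IsAffineHom (Limits.pullback.fst S₀.ι H₁.hom) := MorphismProperty.pullback_fst _ _ hHaff
    haveI : IsAffine Y₀.left := ‹IsAffine (S₀ : Scheme.{u})›
    exact isAffine_of_isAffineHom (Limits.pullback.fst S₀.ι H₁.hom)
  let k := Limits.pullback.fst (snd Y₀ H₁ ≫ i₁).left i₂.left
  haveI : IsImmersion k := MorphismProperty.pullback_fst _ _ ‹IsImmersion i₂.left›
  haveI : LocallyOfFinitePresentation k := by
    rcases hG with hS | hG
    · haveI : IsOpenImmersion (snd Y₀ H₁).left :=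
        inferInstanceAs (IsOpenImmersion (Limits.pullback.snd S₀.ι H₁.hom))
      haveI : IsLocallyNoetherian H₁.left := LocallyOfFiniteType.isLocallyNoetherian H₁.hom
      haveI : IsLocallyNoetherian X :=
        isLocallyNoetherian_of_isOpenImmersion (snd Y₀ H₁).left
      exact Groth.AlgSp2.lfp_of_isLocallyNoetherian _
    · haveI : LocallyOfFinitePresentation (i₂.left ≫ G.hom) := by
        rw [Over.w i₂]
        exact hlfp₂
      haveI := Groth.PropsBasic2.lfp_of_comp i₂.left G.hom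
      exact MorphismProperty.pullback_fst _ _ ‹_›
  let j : Γ((S₀ : Scheme.{u}), ⊤) →+* Γ(X, ⊤) := (fst Y₀ H₁).left.appTop.hom
  let t₀ : (⊤ : (S₀ : Scheme.{u}).Opens) := ⟨s₀, trivial⟩
  let pS := ((isAffineOpen_top (S₀ : Scheme.{u})).primeIdealOf t₀).asIdeal
  haveI : pS.IsPrime := ((isAffineOpen_top (S₀ : Scheme.{u})).primeIdealOf t₀).2
  obtain ⟨σ, hσ, l, hl⟩ : ∃ σ, σ ∉ pS ∧ ∃ l : (X.basicOpen (j σ) : Scheme.{u}) ⟶ _,
      l ≫ k = (X.basicOpen (j σ)).ι := by
    refine exists_basicOpen_factor k j pS ?_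
    let L := Localization (pS.primeCompl.map j.toMonoidHom)
    let qX := Spec.map (CommRingCat.ofHom (algebraMap Γ(X, ⊤) L)) ≫ X.isoSpec.inv
    let O := (S₀ : Scheme.{u}).presheaf.stalk s₀
    letI : Algebra Γ((S₀ : Scheme.{u}), ⊤) O :=
      TopCat.Presheaf.algebra_section_stalk (S₀ : Scheme.{u}).presheaf t₀
    haveI : IsLocalization.AtPrime O pS :=
      (isAffineOpen_top (S₀ : Scheme.{u})).isLocalization_stalk t₀
    have hunit : ∀ y : pS.primeCompl, IsUnit (((algebraMap Γ(X, ⊤) L).comp j) y) := fun y ↦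
      IsLocalization.map_units L (⟨j y, ⟨y, y.2, rfl⟩⟩ : pS.primeCompl.map j.toMonoidHom)
    let ψ : O →+* L := IsLocalization.lift hunit
    let Z : Over S := Over.mk (qX ≫ (Y₀ ⊗ H₁).hom)
    let zX : Z ⟶ Y₀ ⊗ H₁ := Over.homMk qX rfl
    have hψ : Spec.map (CommRingCat.ofHom ψ) ≫ (S₀ : Scheme.{u}).fromSpecStalk s₀ =
        qX ≫ (fst Y₀ H₁).left := by
      have e1 : (S₀ : Scheme.{u}).fromSpecStalk s₀ =
          Spec.map (CommRingCat.ofHom (algebraMap Γ((S₀ : Scheme.{u}), ⊤) O)) ≫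
            (S₀ : Scheme.{u}).isoSpec.inv := by
        refine ext_of_isAffine (CommRingCat.hom_ext (RingHom.ext fun r ↦ ?_))
        rw [Scheme.fromSpecStalk_appTop, Scheme.Hom.comp_appTop]
        have e2 : (S₀ : Scheme.{u}).isoSpec.inv.appTop =
            (Scheme.ΓSpecIso Γ((S₀ : Scheme.{u}), ⊤)).inv := by
          rw [← cancel_epi (Scheme.ΓSpecIso Γ((S₀ : Scheme.{u}), ⊤)).hom, Iso.hom_inv_id,
            ← Scheme.toSpecΓ_appTop, ← Scheme.isoSpec_hom, ← Scheme.Hom.comp_appTop, Iso.inv_hom_id]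
          rfl
        rw [e2, ← Scheme.ΓSpecIso_inv_naturality]
        simp
        rfl
      rw [e1, ← Spec.map_comp_assoc, ← CommRingCat.ofHom_comp,
        show ψ.comp (algebraMap Γ((S₀ : Scheme.{u}), ⊤) O) = (algebraMap Γ(X, ⊤) L).comp j from
          IsLocalization.lift_comp hunit,
        CommRingCat.ofHom_comp, Spec.map_comp_assoc, Category.assoc]
      congr 1
      exact Scheme.isoSpec_inv_naturality (fst Y₀ H₁).left
    let z₀ : Z ⟶ P₀ := Over.homMk (Spec.map (CommRingCat.ofHom ψ)) (by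
      show _ ≫ _ ≫ S₀.ι = qX ≫ (Y₀ ⊗ H₁).hom
      rw [← Category.assoc, hψ, Category.assoc]
      exact congrArg (qX ≫ ·) (Over.w (fst Y₀ H₁)))
    obtain ⟨y, hy⟩ := hloc Z z₀ (zX ≫ snd Y₀ H₁)
    have e := congrArg (fun z : Z ⟶ G ↦ z.left) hy
    simp only [Over.comp_left, Category.assoc] at e
    exact ⟨Limits.pullback.lift qX y.left (by rw [Over.comp_left]; exact e.symm),
      Limits.pullback.lift_fst _ _ _⟩
  refine ⟨S₀.ι ''ᵁ (S₀ : Scheme.{u}).basicOpen σ, ⟨s₀, ?_, rfl⟩, fun W w x ↦ ?_⟩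
  · letI : Algebra Γ((S₀ : Scheme.{u}), ⊤) ((S₀ : Scheme.{u}).presheaf.stalk s₀) :=
      TopCat.Presheaf.algebra_section_stalk (S₀ : Scheme.{u}).presheaf t₀
    haveI : IsLocalization.AtPrime ((S₀ : Scheme.{u}).presheaf.stalk s₀) pS :=
      (isAffineOpen_top (S₀ : Scheme.{u})).isLocalization_stalk t₀
    exact (Scheme.mem_basicOpen_top _ σ s₀).2
      (IsLocalization.map_units ((S₀ : Scheme.{u}).presheaf.stalk s₀) (⟨σ, hσ⟩ : pS.primeCompl))
  let V := S₀.ι ''ᵁ (S₀ : Scheme.{u}).basicOpen σ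
  have hr : Set.range W.hom ⊆ Set.range S₀.ι := by
    rw [← Over.w w]
    rintro _ ⟨z, rfl⟩
    rw [Scheme.Hom.comp_apply, Scheme.Opens.range_ι]
    obtain ⟨a, -, ha⟩ := (w.left z).2
    show (w.left z).1 ∈ S₀
    rw [show (w.left z).1 = S₀.ι a from ha.symm]
    exact a.2
  let w' : W ⟶ Y₀ := Over.homMk (IsOpenImmersion.lift S₀.ι W.hom hr) (IsOpenImmersion.lift_fac _ _ _)
  let c : W ⟶ Y₀ ⊗ H₁ := lift w' x
  have hcr : Set.range c.left ⊆ Set.range (X.basicOpen (j σ)).ι := by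
    rw [Scheme.Opens.range_ι]
    rintro _ ⟨z, rfl⟩
    show z ∈ c.left ⁻¹ᵁ (Y₀ ⊗ H₁).left.basicOpen ((fst Y₀ H₁).left.appTop σ)
    rw [← Scheme.preimage_basicOpen_top (fst Y₀ H₁).left σ, ← Scheme.Hom.comp_preimage,
      ← Over.comp_left, lift_fst]
    show w'.left z ∈ (S₀ : Scheme.{u}).basicOpen σ
    obtain ⟨a, ha, ha'⟩ := (w.left z).2
    have : w'.left z = a := S₀.ι.isOpenEmbedding.injective (by
      refine (congrArg (fun f : W.left ⟶ S ↦ f.base z)
        ((IsOpenImmersion.lift_fac S₀.ι W.hom hr).trans (Over.w w).symm)).trans ?_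
      exact ha'.symm)
    rw [this]
    exact ha
  let cl := IsOpenImmersion.lift (X.basicOpen (j σ)).ι c.left hcr ≫ l
  have hcl : cl ≫ k = c.left := by
    rw [Category.assoc, hl, IsOpenImmersion.lift_fac]
  have hy : (cl ≫ Limits.pullback.snd _ _) ≫ i₂.left = (x ≫ i₁).left := by
    rw [Category.assoc, ← Limits.pullback.condition, ← Category.assoc, hcl, ← Over.comp_left,
      ← Category.assoc, lift_snd]
  refine ⟨Over.homMk (cl ≫ Limits.pullback.snd _ _) ?_, Over.OverMorphism.ext hy⟩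
  rw [← Over.w i₂, ← Category.assoc, hy]
  exact Over.w _

end Groth.Reductive.CentralEq
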