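import Groth.Agent.Reductive.TrivialActionDescent
import Groth.Agent.Reductive.TrivialLocus

/-!
A family of homomorphisms from a diagonalisable group which is trivial modulo a square-zero ideal is
trivial.
-/

set_option autoImplicit false
universe u

open CategoryTheory MonoidalCategory CartesianMonoidalCategory MonObj GrpObj AlgebraicGeometry
open Groth.Reductive.FreeDiag

noncomputable section

namespace Groth.Reductive.CentralEq

attribute [local instance] algΓ'

variable {T : Scheme.{u}} {M : Type} [AddCommGroup M] {G : Over T} [GrpObj G] {Y : Over T}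

/-- The morphism over `Y` attached to a family over `Y`. -/
def overHom (d : Red.DS T M ⊗ Y ⟶ G) : Red.DS Y.left M ⟶ Red.bc Y.hom G :=
  (Over.mapPullbackAdj Y.hom).homEquiv (Red.DS Y.left M) G
    (lift (dsPtEquiv Y.hom M (Red.DS Y.left M) (𝟙 _))
      (Over.homMk (Red.DS Y.left M).hom rfl : (Over.map Y.hom).obj (Red.DS Y.left M) ⟶ Y) ≫ d)

lemma qPt_overHom (d : Red.DS T M ⊗ Y ⟶ G) {Z : Over Y.left} (z : Z ⟶ Red.DS Y.left M) :
    qPt Y.hom (z ≫ overHom d) =
      lift (dsPtEquiv Y.hom M Z z) (Over.homMk Z.hom rfl : (Over.map Y.hom).obj Z ⟶ Y) ≫ d := by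
  refine ((Over.mapPullbackAdj Y.hom).homEquiv_naturality_left_symm _ _).trans ?_
  rw [overHom, Equiv.symm_apply_apply, ← Category.assoc, comp_lift, ← dsPtEquiv_comp,
    Category.comp_id]
  congr 2
  exact Over.OverMorphism.ext (Over.w z)

lemma isMonHom_overHom (d : Red.DS T M ⊗ Y ⟶ G)
    (hmul : ∀ (Z : Over T) (h h' : Z ⟶ Red.DS T M) (y : Z ⟶ Y),
      lift (h * h') y ≫ d = lift h y ≫ d * (lift h' y ≫ d)) : IsMonHom (overHom d) :=
  Groth.AlgGrp1.isMonHom_of_points _ fun Z z z' ↦ by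
    apply qPt_injective Y.hom
    show _ = bcPointEquiv Y.hom G Z _
    rw [map_mul, show bcPointEquiv Y.hom G Z (z ≫ overHom d) = _ from qPt_overHom d z,
      show bcPointEquiv Y.hom G Z (z' ≫ overHom d) = _ from qPt_overHom d z', qPt_overHom, map_mul]
    exact hmul _ _ _ _

/-- **Rigidity**: such a family trivial modulo a square-zero ideal is trivial. -/
theorem eq_one_of_multiplicative [IsAffine T] [IsAffine Y.left] (d : Red.DS T M ⊗ Y ⟶ G)
    (hmul : ∀ (Z : Over T) (h h' : Z ⟶ Red.DS T M) (y : Z ⟶ Y),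
      lift (h * h') y ≫ d = lift h y ≫ d * (lift h' y ≫ d))
    (J : Ideal Γ(Y.left, ⊤)) (hJ : J ^ 2 = ⊥)
    (h0 : ∀ (Z : Over T) (h : Z ⟶ Red.DS T M)
      (l : Z ⟶ mkT (Y := Y) (Γ(Y.left, ⊤) ⧸ J) (Ideal.Quotient.mk J)) (y : Z ⟶ Y),
      l ≫ yT (Y := Y) (Γ(Y.left, ⊤) ⧸ J) (Ideal.Quotient.mk J) = y → lift h y ≫ d = 1) :
    d = 1 := by
  haveI := isMonHom_overHom d hmul
  let j₀ := yT (Y := Y) (Γ(Y.left, ⊤) ⧸ J) (Ideal.Quotient.mk J)
  haveI : IsClosedImmersion j₀.left := by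
    haveI : IsClosedImmersion (Spec.map (CommRingCat.ofHom (Ideal.Quotient.mk J))) :=
      IsClosedImmersion.spec_of_surjective _ Ideal.Quotient.mk_surjective
    exact inferInstanceAs (IsClosedImmersion (Spec.map _ ≫ Y.left.isoSpec.inv))
  have hj₀ : ∀ b, j₀.left.appTop.hom b = 0 → b ∈ J := fun b hb ↦ by
    rw [show j₀.left.appTop.hom b = ΓT (Y := Y) _ (Ideal.Quotient.mk J) (Ideal.Quotient.mk J b) from
      RingHom.congr_fun (yT_appTop _ _) b] at hb
    exact Ideal.Quotient.eq_zero_iff_mem.1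
      ((map_eq_zero_iff _ (ΓT_bijective (Y := Y) _ _).1).1 hb)
  have htriv : (leftMulAction (overHom d)).act =
      snd (Red.DS Y.left M) (Red.bc Y.hom G) := by
    refine eq_snd_of_diag _ (fun Z h h' y ↦ act_assoc _ h h' y) (fun Z y ↦ act_one' _ y) J
      ⟨2, hJ⟩ fun Z hZ h y ↦ ?_
    rw [lift_leftMulAction]
    suffices h1 : h ≫ overHom d = 1 by rw [h1, _root_.one_mul]
    apply qPt_injective Y.hom
    rw [qPt_overHom, show qPt Y.hom (1 : Z ⟶ Red.bc Y.hom G) = 1 from
      map_one (bcPointEquiv Y.hom G Z)]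
    obtain ⟨l, hl⟩ := exists_lift_of_appTop_ker j₀.left Z.hom fun r hr ↦ hZ r (hj₀ r hr)
    exact h0 _ _ (Over.homMk l (by rw [← Over.w j₀, ← Category.assoc, hl]; rfl)
      : (Over.map Y.hom).obj Z ⟶ _) _ (Over.OverMorphism.ext hl)
  let W := Red.DS T M ⊗ Y
  let W' : Over Y.left := Over.mk (snd (Red.DS T M) Y).left
  let c : W ⟶ (Over.map Y.hom).obj W' :=
    Over.homMk (𝟙 _) ((Category.id_comp _).trans (Over.w (snd (Red.DS T M) Y)))
  let ci : (Over.map Y.hom).obj W' ⟶ W :=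
    Over.homMk (𝟙 _) ((Category.id_comp _).trans (Over.w (snd (Red.DS T M) Y)).symm)
  have hcci : c ≫ ci = 𝟙 W := Over.OverMorphism.ext (Category.id_comp _)
  have hci : ci ≫ snd (Red.DS T M) Y = Over.homMk W'.hom rfl :=
    Over.OverMorphism.ext (Category.id_comp _)
  let z := (dsPtEquiv Y.hom M W').symm (ci ≫ fst (Red.DS T M) Y)
  have h1 : z ≫ overHom d = 1 := by
    have h2 := lift_leftMulAction (u := overHom d) z (1 : W' ⟶ Red.bc Y.hom G)
    rw [htriv, lift_snd, _root_.mul_one] at h2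
    exact h2.symm
  have h3 := qPt_overHom d z
  rw [h1, show qPt Y.hom (1 : W' ⟶ Red.bc Y.hom G) = 1 from map_one (bcPointEquiv Y.hom G W'),
    MulEquiv.apply_symm_apply, ← hci, ← comp_lift, lift_fst_snd, Category.comp_id] at h3
  have h4 := c ≫= h3
  rw [MonObj.comp_one, ← Category.assoc, hcci, Category.id_comp] at h4
  exact h4.symm

end Groth.Reductive.CentralEq
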