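import Groth.Agent.Reductive.CentralEq.SqZero
import Groth.Agent.Reductive.SubgroupEq

/-!
The locus where two homomorphisms from a diagonalisable group agree, as an ideal of coefficients.
-/

set_option autoImplicit false
set_option backward.isDefEq.respectTransparency false
universe u

open CategoryTheory MonoidalCategory CartesianMonoidalCategory MonObj GrpObj AlgebraicGeometry
open Groth.Reductive.FreeDiag Groth.Reductive.CentralNhd

noncomputable section

namespace Groth.Reductive.CentralEq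

attribute [local instance] algΓ'

variable {T : Scheme.{u}} {M : Type} [AddCommGroup M] {G : Over T} [GrpObj G]
  (v₁ v₂ : Red.DS T M ⟶ G) (P : Over T)

/-- The quotient of the two homomorphisms over `P`. -/
def eMor : Red.DS T M ⊗ P ⟶ G := (fst (Red.DS T M) P ≫ v₁) * (fst (Red.DS T M) P ≫ v₂)⁻¹

/-- Their agreement subscheme. -/
def kMor : Limits.pullback (eMor v₁ v₂ P).left η[G].left ⟶ (Red.DS T M ⊗ P).left :=
  Limits.pullback.fst _ _

instance : IsImmersion (kMor v₁ v₂ P) := by
  haveI : IsImmersion (η[G].left ≫ G.hom) := by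
    rw [show η[G].left ≫ G.hom = 𝟙 T from Over.w η[G]]
    exact MorphismProperty.id_mem @IsImmersion T
  haveI : IsImmersion η[G].left := IsImmersion.of_comp η[G].left G.hom
  exact MorphismProperty.pullback_fst _ _ ‹_›

variable {P}

lemma lift_eMor {Z : Over T} (h : Z ⟶ Red.DS T M) (y : Z ⟶ P) :
    lift h y ≫ eMor v₁ v₂ P = (h ≫ v₁) * (h ≫ v₂)⁻¹ := by
  simp only [eMor, MonObj.comp_mul, GrpObj.comp_inv, lift_fst_assoc]

/-- The subscheme classifies agreement. -/
lemma factor_iff {Z : Over T} (c : Z ⟶ Red.DS T M ⊗ P) :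
    c ≫ eMor v₁ v₂ P = 1 ↔ ∃ l, l ≫ kMor v₁ v₂ P = c.left := by
  have hone : ((1 : Z ⟶ G)).left = Z.hom ≫ η[G].left := by
    rw [Hom.one_def, Over.comp_left]
    rfl
  constructor
  · intro e
    have e' : c.left ≫ (eMor v₁ v₂ P).left = Z.hom ≫ η[G].left := by
      rw [← hone, ← e]
      rfl
    exact ⟨Limits.pullback.lift c.left Z.hom e', Limits.pullback.lift_fst _ _ _⟩
  · rintro ⟨l, hl⟩
    refine Over.OverMorphism.ext ?_
    rw [hone, Over.comp_left, ← hl, kMor, Category.assoc, Limits.pullback.condition, ← Category.assoc]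
    congr 1
    have h1 : Limits.pullback.snd (eMor v₁ v₂ P).left η[G].left =
        Limits.pullback.fst _ _ ≫ (Red.DS T M ⊗ P).hom := by
      rw [← Over.w (eMor v₁ v₂ P), ← Category.assoc, Limits.pullback.condition, Category.assoc,
        show η[G].left ≫ G.hom = 𝟙 T from Over.w η[G]]
      exact (Category.comp_id _).symm
    rw [h1, ← Category.assoc, show l ≫ Limits.pullback.fst _ _ = c.left from hl]
    exact Over.w c

lemma eqOn_iff_whisker {Z : Over T} (j : Z ⟶ P) :
    EqOn v₁ v₂ Z ↔ (Red.DS T M ◁ j) ≫ eMor v₁ v₂ P = 1 := by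
  have e : Red.DS T M ◁ j = lift (fst (Red.DS T M) Z) (snd (Red.DS T M) Z ≫ j) := by
    apply CartesianMonoidalCategory.hom_ext <;> simp
  rw [e, lift_eMor, mul_inv_eq_one]
  refine ⟨fun h ↦ h _ (snd _ _) _, fun h W w x ↦ ?_⟩
  have h1 := lift x w ≫= h
  rwa [lift_fst_assoc, lift_fst_assoc] at h1

variable [IsAffine T] [IsAffine P.left]

variable (P) in
/-- The coefficients of the functions vanishing on the agreement subscheme. -/
def coeffIdeal : Ideal Γ(P.left, ⊤) :=
  Ideal.span {a | ∃ r, (kMor v₁ v₂ P).appTop.hom r = 0 ∧ ∃ g,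
    a = ((RingEquiv.ofBijective _ (κ₀_bijective (T := T) (M := M) (Y := P))).symm r).coeff g}

lemma coeff_mem_coeffIdeal (f : MonoidAlgebra Γ(P.left, ⊤) (Multiplicative M))
    (hf : (kMor v₁ v₂ P).appTop.hom (κ₀ f) = 0) (g : Multiplicative M) :
    f.coeff g ∈ coeffIdeal v₁ v₂ P :=
  Ideal.subset_span ⟨κ₀ f, hf, g,
    congrArg (fun x ↦ x.coeff g) ((RingEquiv.ofBijective _ κ₀_bijective).symm_apply_apply f).symm⟩

/-- If the agreement subscheme is closed, agreement over a point is killing the coefficients. -/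
theorem eqOn_iff_coeff [IsClosedImmersion (kMor v₁ v₂ P)] {Y : Over T} [IsAffine Y.left]
    (j : Y ⟶ P) : EqOn v₁ v₂ Y ↔ ∀ a ∈ coeffIdeal v₁ v₂ P, j.left.appTop.hom a = 0 := by
  let D := Red.DS T M
  let e := RingEquiv.ofBijective _ (κ₀_bijective (T := T) (M := M) (Y := P))
  have he : ∀ r, κ₀ (e.symm r) = r := e.apply_symm_apply
  constructor
  · intro h a ha
    refine (Ideal.span_le (I := RingHom.ker j.left.appTop.hom)).2 ?_ ha
    rintro _ ⟨r, hr, g, rfl⟩
    refine coeff_eq_zero_of_whisker j _ ?_ g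
    obtain ⟨l, hl⟩ := (factor_iff v₁ v₂ (D ◁ j)).1 ((eqOn_iff_whisker v₁ v₂ j).1 h)
    rw [show κ₀ (e.symm r) = r from he r, ← hl, Scheme.Hom.comp_appTop, CommRingCat.comp_apply]
    show l.appTop.hom ((kMor v₁ v₂ P).appTop.hom r) = 0
    rw [hr, map_zero]
  · intro h
    rw [eqOn_iff_whisker v₁ v₂ j, factor_iff]
    haveI : IsAffine (D ⊗ P).left := by
      haveI : IsAffineHom D.hom := inferInstance
      infer_instance
    refine exists_lift_of_appTop_ker (kMor v₁ v₂ P) _ fun r hr ↦ ?_
    rw [← he r, whisker_appTop, (mapRingHom_eq_zero_iff _ _).2, map_zero]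
    exact fun g ↦ h _ (Ideal.subset_span ⟨r, hr, g, rfl⟩)

/-- The ideal is of finite type. -/
theorem coeffIdeal_fg [IsClosedImmersion (kMor v₁ v₂ P)]
    [LocallyOfFinitePresentation (kMor v₁ v₂ P)] : (coeffIdeal v₁ v₂ P).FG := by
  classical
  haveI : IsAffine (Red.DS T M ⊗ P).left := by
    haveI : IsAffineHom (Red.DS T M).hom := inferInstance
    infer_instance
  let k := kMor v₁ v₂ P
  haveI : IsAffine (Limits.pullback (eMor v₁ v₂ P).left η[G].left) := isAffine_of_isAffineHom k
  have hfg : (RingHom.ker k.appTop.hom).FG := by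
    letI := k.appTop.hom.toAlgebra
    haveI : Algebra.FinitePresentation Γ((Red.DS T M ⊗ P).left, ⊤)
        Γ(Limits.pullback (eMor v₁ v₂ P).left η[G].left, ⊤) := k.finitePresentation_appTop
    exact Algebra.FinitePresentation.ker_fG_of_surjective (Algebra.ofId _ _)
      (k.app_surjective ⊤ (isAffineOpen_top _))
  obtain ⟨t, ht⟩ := hfg
  let e := RingEquiv.ofBijective _ (κ₀_bijective (T := T) (M := M) (Y := P))
  let F : Finset Γ(P.left, ⊤) :=
    t.biUnion fun r ↦ (e.symm r).coeff.support.image fun g ↦ (e.symm r).coeff g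
  refine ⟨F, le_antisymm (Ideal.span_le.2 ?_) (Ideal.span_le.2 ?_)⟩
  · intro a ha
    obtain ⟨r, hr, ha⟩ := Finset.mem_biUnion.1 ha
    obtain ⟨g, -, rfl⟩ := Finset.mem_image.1 ha
    exact Ideal.subset_span ⟨r, ht.le (Submodule.subset_span hr), g, rfl⟩
  · rintro _ ⟨r, hr, g, rfl⟩
    have hr' : r ∈ Submodule.span Γ((Red.DS T M ⊗ P).left, ⊤) (t : Set _) := ht.ge hr
    induction hr' using Submodule.span_induction generalizing g with
    | mem r hrt =>
      by_cases h : (e.symm r).coeff g = 0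
      · rw [h]; exact zero_mem _
      · exact Ideal.subset_span (Finset.mem_biUnion.2 ⟨r, hrt, Finset.mem_image.2
          ⟨g, Finsupp.mem_support_iff.2 h, rfl⟩⟩)
    | zero => rw [map_zero]; simp
    | add a b ha _ iha ihb =>
      rw [map_add, MonoidAlgebra.coeff_add, Finsupp.add_apply]
      have h1 : k.appTop.hom a = 0 := ht.le ha
      refine add_mem (iha h1 g) (ihb ?_ g)
      rw [map_add, h1, zero_add] at hr
      exact hr
    | smul c a ha iha =>
      rw [smul_eq_mul, map_mul]
      exact coeff_mul_mem g fun a' b' _ ↦ Ideal.mul_mem_left _ _ (iha (ht.le ha) b')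

end Groth.Reductive.CentralEq
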