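import Groth.Agent.Reductive.CentralEq.Ker
import Groth.Agent.Reductive.CentralNhd.Global

/-!
Over a local ring, two homomorphisms from a diagonalisable group which agree at the closed point agree,
if the first one is central there.
-/

set_option autoImplicit false
set_option backward.isDefEq.respectTransparency false
universe u

open CategoryTheory MonoidalCategory CartesianMonoidalCategory MonObj GrpObj AlgebraicGeometry
open Groth.Reductive.FreeDiag Groth.Reductive.CentralNhd

noncomputable section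

namespace Groth.Reductive.CentralEq

attribute [local instance] algΓ'

variable {T : Scheme.{u}} {M : Type} [AddCommGroup M] {G : Over T} [GrpObj G]
  (v₁ v₂ : Red.DS T M ⟶ G)

/-- Over a field the agreement subscheme is closed. -/
theorem isClosedImmersion_kMor_field (K : Type u) [Field K] (p : Spec (CommRingCat.of K) ⟶ T) :
    IsClosedImmersion (kMor v₁ v₂ (Over.mk p)) := by
  let e := eMor v₁ v₂ (Over.mk p)
  let X : Over (Spec (CommRingCat.of K)) := Over.mk (snd (Red.DS T M) (Over.mk p)).left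
  let ci : (Over.map p).obj X ⟶ Red.DS T M ⊗ Over.mk p :=
    Over.homMk (𝟙 _) ((Category.id_comp _).trans (Over.w (snd (Red.DS T M) (Over.mk p))).symm)
  let e' : X ⟶ Red.bc p G := (Over.mapPullbackAdj p).homEquiv X G (ci ≫ e)
  haveI : IsSeparated (Red.bc p G).hom := Groth.AlgGrp1.isSeparated_grpObj (Red.bc p G)
  let ηK := η[Red.bc p G]
  haveI : IsClosedImmersion ηK.left := by
    haveI : IsClosedImmersion (ηK.left ≫ (Red.bc p G).hom) := by
      rw [Over.w ηK]
      exact MorphismProperty.id_mem @IsClosedImmersion _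
    exact MorphismProperty.of_postcomp (W := @IsClosedImmersion) (W' := @IsSeparated) ηK.left
      (Red.bc p G).hom inferInstance inferInstance
  have sq : IsPullback ηK.left p (Limits.pullback.fst G.hom p) η[G].left := by
    refine IsPullback.of_right ?_ (one_bc_left p) (IsPullback.of_hasPullback G.hom p).flip
    rw [show ηK.left ≫ Limits.pullback.snd G.hom p = 𝟙 _ from Over.w ηK,
      show η[G].left ≫ G.hom = 𝟙 T from Over.w η[G]]
    show IsPullback (𝟙 _) p p (𝟙 T)
    exact IsPullback.of_horiz_isIso ⟨by simp⟩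
  have sq' := (IsPullback.of_hasPullback e'.left ηK.left).flip.paste_horiz sq.flip
  have he : e'.left ≫ Limits.pullback.fst G.hom p = e.left := by
    have h1 : qPt p e' = ci ≫ e := Equiv.symm_apply_apply _ _
    have h2 := congrArg (fun z ↦ z.left) h1
    simp [qPt, Adjunction.homEquiv_counit, ci] at h2
    exact h2
  rw [he] at sq'
  show IsClosedImmersion (Limits.pullback.fst e.left η[G].left)
  rw [← sq'.flip.isoPullback_inv_fst]
  haveI : IsClosedImmersion (Limits.pullback.fst e'.left ηK.left) :=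
    MorphismProperty.pullback_fst _ _ ‹_›
  infer_instance

variable [IsAffine T] (P : Over T) [IsAffine P.left]

/-- Agreement on all finite subgroups gives agreement, if the agreement subscheme is closed. -/
theorem eqOn_of_quotients [AddGroup.FG M] [IsClosedImmersion (kMor v₁ v₂ P)]
    (h : ∀ (N : Type) (_ : AddCommGroup N) (_ : Finite N) (q : M →+ N),
      EqOn (dsHom q ≫ v₁) (dsHom q ≫ v₂) P) : EqOn v₁ v₂ P := by
  classical
  rw [eqOn_iff_coeff v₁ v₂ (𝟙 P)]
  intro a ha
  suffices h0 : a = 0 by rw [h0, map_zero]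
  rw [← Ideal.mem_bot]
  refine (Ideal.span_le (I := (⊥ : Ideal Γ(P.left, ⊤)))).2 ?_ ha
  rintro _ ⟨r, hr, g, rfl⟩
  let e := RingEquiv.ofBijective _ (κ₀_bijective (T := T) (M := M) (Y := P))
  obtain ⟨c, rfl⟩ := e.surjective r
  show (e.symm (e c)).coeff g = 0
  rw [e.symm_apply_apply]
  suffices hc : c = 0 by rw [hc]; simp
  obtain ⟨N, _, _, q, hq⟩ := exists_finite_quotient_injOn
    (c.coeff.support.image Multiplicative.toAdd)
  let z := fst (Red.DS T N) P
  let y := snd (Red.DS T N) P
  let m : Red.DS T N ⊗ P ⟶ Red.DS T M ⊗ P := lift (z ≫ dsHom q) y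
  have hm : m ≫ eMor v₁ v₂ P = 1 := by
    rw [lift_eMor, Category.assoc, Category.assoc, h N inferInstance inferInstance q _ y z,
      mul_inv_cancel]
  obtain ⟨l, hl⟩ := (factor_iff v₁ v₂ m).1 hm
  have hz : m.left.appTop (e c) = 0 := by
    rw [← hl, Scheme.Hom.comp_appTop, CommRingCat.comp_apply]
    show l.appTop.hom ((kMor v₁ v₂ P).appTop.hom _) = 0
    rw [hr, map_zero]
  have hmap : m.left.appTop.hom.comp (κ₀ (T := T) (M := M) (Y := P)) =
      (κ₀ (T := T) (M := N) (Y := P)).comp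
        (MonoidAlgebra.mapDomainRingHom Γ(P.left, ⊤) (AddMonoidHom.toMultiplicative q)) := by
    rw [← ptEv_comp, lift_fst, lift_snd]
    refine MonoidAlgebra.ringHom_ext (fun x ↦ ?_) (fun d ↦ ?_)
    · simp only [RingHom.comp_apply, MonoidAlgebra.mapDomainRingHom_apply,
        MonoidAlgebra.mapDomain_single, map_one, κ₀, ptEv_single, ← dsValHom_apply]
      rfl
    · simp only [RingHom.comp_apply, MonoidAlgebra.mapDomainRingHom_apply,
        MonoidAlgebra.mapDomain_single, κ₀, ptEv_single, map_one, _root_.one_mul]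
      exact dsVal_dsHom q z d
  have hc' : MonoidAlgebra.mapDomainRingHom Γ(P.left, ⊤) (AddMonoidHom.toMultiplicative q) c = 0 := by
    apply κ₀_bijective.1
    rw [map_zero, ← RingHom.comp_apply, ← hmap]
    exact hz
  refine MonoidAlgebra.ext (Finsupp.ext fun d ↦ ?_)
  by_contra hd
  have hinjOn : Set.InjOn (AddMonoidHom.toMultiplicative q)
      (c.coeff.support : Set (Multiplicative M)) :=
    fun d₁ hd₁ d₂ hd₂ e ↦ hq (Finset.mem_image_of_mem _ hd₁) (Finset.mem_image_of_mem _ hd₂) e
  have e := congrArg (fun t ↦ t.coeff (AddMonoidHom.toMultiplicative q d)) hc'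
  simp only [MonoidAlgebra.mapDomainRingHom_apply, MonoidAlgebra.coeff_mapDomain] at e
  rw [Finsupp.mapDomain_apply' (c.coeff.support : Set (Multiplicative M)) _ (fun _ h ↦ h) hinjOn
    (Finsupp.mem_support_iff.mpr (by simpa using hd))] at e
  exact hd (by simpa using e)

/-- A locally closed subset of an affine scheme containing all closed points is closed. -/
lemma isClosed_range_of_closedPoints {A X : Scheme.{u}} [IsAffine X] (k : A ⟶ X) [IsImmersion k]
    (h : ∀ z : X, IsClosed ({z} : Set X) → z ∈ Set.range k) : IsClosed (Set.range k) := by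
  have hc : IsClosed (closure (Set.range k) \ Set.range k) :=
    isOpen_compl_iff.1 k.coborderRange.isOpen
  have he : closure (Set.range k) \ Set.range k = ∅ := by
    by_contra hne
    obtain ⟨z, hz, hzc⟩ := hc.exists_closed_singleton (Set.nonempty_iff_ne_empty.2 hne)
    exact hz.2 (h z hzc)
  exact closure_subset_iff_isClosed.1 (Set.diff_eq_empty.1 he)

variable {WT : Over T} [IsAffine WT.left] (w : WT ⟶ G) (eW : 𝟙_ (Over T) ⟶ WT)
  [IsOpenImmersion w.left] (heW : eW ≫ w = η[G]) [IsMonHom v₁] [IsMonHom v₂]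
  [IsLocalRing Γ(P.left, ⊤)] (p : Ideal Γ(T, ⊤))
  (hp : (IsLocalRing.maximalIdeal Γ(P.left, ⊤)).comap P.hom.appTop.hom = p)
  (hfix : ∀ (Z : Over T), (∀ r, r ∉ p → IsUnit (Z.hom.appTop.hom r)) →
    ∀ (h : Z ⟶ Red.DS T M) (y : Z ⟶ WT), (∀ b ∈ augIdeal eW ^ 2, y.left.appTop b = 0) →
      (∀ r ∈ p, ∀ b ∈ augIdeal eW, Z.hom.appTop.hom r * y.left.appTop.hom b = 0) →
        lift h (y ≫ w) ≫ conjMor v₁ = y ≫ w)
  (h0 : EqOn v₁ v₂ (mkT (Y := P) (Γ(P.left, ⊤) ⧸ IsLocalRing.maximalIdeal Γ(P.left, ⊤))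
    (Ideal.Quotient.mk (IsLocalRing.maximalIdeal Γ(P.left, ⊤)))))

include heW hfix hp h0 in
/-- The case of a finite group. -/
theorem eqOn_finite [Finite M] [LocallyOfFinitePresentation (kMor v₁ v₂ P)] : EqOn v₁ v₂ P := by
  classical
  let R := Γ(P.left, ⊤)
  let m := IsLocalRing.maximalIdeal R
  let D := Red.DS T M
  let X := (D ⊗ P).left
  haveI : IsAffine X := by
    haveI : IsAffineHom D.hom := inferInstance
    exact inferInstanceAs (IsAffine (Limits.pullback D.hom P.hom))
  let Y₀ : Over T := mkT (Y := P) (R ⧸ m) (Ideal.Quotient.mk m)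
  let j₀ : Y₀ ⟶ P := yT (Y := P) (R ⧸ m) (Ideal.Quotient.mk m)
  haveI : IsAffine Y₀.left := inferInstanceAs (IsAffine (Spec _))
  haveI : IsClosedImmersion j₀.left := by
    haveI : IsClosedImmersion (Spec.map (CommRingCat.ofHom (Ideal.Quotient.mk m))) :=
      IsClosedImmersion.spec_of_surjective _ Ideal.Quotient.mk_surjective
    exact inferInstanceAs (IsClosedImmersion (Spec.map _ ≫ P.left.isoSpec.inv))
  have hmk : ∀ (I : Ideal R) b, (yT (Y := P) (R ⧸ I) (Ideal.Quotient.mk I)).left.appTop.hom b = 0 ↔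
      b ∈ I := fun I b ↦ by
    rw [show (yT (Y := P) (R ⧸ I) (Ideal.Quotient.mk I)).left.appTop.hom b =
      ΓT (Y := P) _ (Ideal.Quotient.mk I) (Ideal.Quotient.mk I b) from
      RingHom.congr_fun (yT_appTop _ _) b]
    rw [map_eq_zero_iff _ (ΓT_bijective (Y := P) _ _).1, Ideal.Quotient.eq_zero_iff_mem]
  -- the agreement subscheme is closed
  haveI : IsClosedImmersion (kMor v₁ v₂ P) := by
    refine IsClosedImmersion.of_isPreimmersion _ (isClosed_range_of_closedPoints _ fun z hz ↦ ?_)
    let 𝔮 : Ideal Γ(X, ⊤) := (X.isoSpec.hom z).asIdeal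
    haveI : 𝔮.IsMaximal := by
      rw [← PrimeSpectrum.isClosed_singleton_iff_isMaximal]
      have := X.isoSpec.hom.homeomorph.isClosedMap {z} hz
      simpa using this
    let σ : R →+* Γ(X, ⊤) := (snd D P).left.appTop.hom
    haveI : (𝔮.comap σ).IsMaximal := by
      have hσ : σ = (κ₀ (T := T) (M := M) (Y := P)).comp MonoidAlgebra.singleOneRingHom :=
        RingHom.ext fun b ↦ by
          show (snd D P).left.appTop b = κ₀ (MonoidAlgebra.single 1 b)
          rw [κ₀, ptEv_single, ← dsValHom_apply, map_one, _root_.mul_one]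
      have hint : σ.IsIntegral := by
        rw [hσ]
        refine RingHom.IsIntegral.trans _ _ ?_ (RingHom.isIntegral_of_surjective _ κ₀_bijective.2)
        haveI : Module.Finite R (MonoidAlgebra R (Multiplicative M)) := inferInstance
        haveI : Algebra.IsIntegral R (MonoidAlgebra R (Multiplicative M)) := inferInstance
        exact Algebra.IsIntegral.isIntegral
      exact Ideal.isMaximal_comap_of_isIntegral_of_isMaximal' σ hint 𝔮
    have hmq : m = 𝔮.comap σ := (IsLocalRing.eq_maximalIdeal ‹_›).symm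
    let Z : Over T := Over.mk (X.fromSpecResidueField z ≫ (D ⊗ P).hom)
    let c : Z ⟶ D ⊗ P := Over.homMk (X.fromSpecResidueField z) rfl
    have hkr : ∀ r ∈ m, (c ≫ snd D P).left.appTop.hom r = 0 := by
      intro r hr
      rw [hmq] at hr
      rw [Over.comp_left, Scheme.Hom.comp_appTop]
      show (X.fromSpecResidueField z).appTop.hom (σ r) = 0
      by_contra hne
      have hnot : z ∉ X.basicOpen (σ r) := by
        rw [show X.basicOpen (σ r) = X.isoSpec.hom ⁻¹ᵁ PrimeSpectrum.basicOpen (σ r) by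
          rw [Scheme.isoSpec_hom]; exact (Scheme.toSpecΓ_preimage_basicOpen X (σ r)).symm]
        exact fun h ↦ h hr
      apply hnot
      let q : (Spec (X.residueField z) : Scheme.{u}) := default
      have hfield : IsField Γ(Spec (X.residueField z), ⊤) :=
        (Scheme.ΓSpecIso (X.residueField z)).commRingCatIsoToRingEquiv.toMulEquiv.isField
          (Field.toIsField (X.residueField z))
      have hu : IsUnit ((X.fromSpecResidueField z).appTop.hom (σ r)) := by
        obtain ⟨b, hb⟩ := hfield.mul_inv_cancel hne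
        exact IsUnit.of_mul_eq_one _ hb
      have hq : q ∈ (X.fromSpecResidueField z) ⁻¹ᵁ X.basicOpen (σ r) := by
        rw [Scheme.preimage_basicOpen_top]
        exact (Scheme.basicOpen_of_isUnit _ hu).symm ▸ trivial
      exact Scheme.fromSpecResidueField_apply z q ▸ hq
    obtain ⟨l, hl⟩ := exists_lift_of_appTop_ker j₀.left (c ≫ snd D P).left
      fun r hr ↦ hkr r ((hmk m r).1 hr)
    let l' : Z ⟶ Y₀ := Over.homMk l (by
      rw [← Over.w j₀, ← Category.assoc, hl]
      exact Over.w _)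
    have h1 : c ≫ eMor v₁ v₂ P = 1 := by
      rw [← lift_comp_fst_snd c, lift_eMor, h0 Z l' (c ≫ fst D P), mul_inv_cancel]
    obtain ⟨k, hk⟩ := (factor_iff v₁ v₂ c).1 h1
    let q : (Spec (X.residueField z) : Scheme.{u}) := default
    refine ⟨k q, ?_⟩
    rw [← Scheme.Hom.comp_apply, hk]
    exact Scheme.fromSpecResidueField_apply z q
  -- the coefficient ideal vanishes
  let 𝔠 := coeffIdeal v₁ v₂ P
  have hle : 𝔠 ≤ m := fun a ha ↦ (hmk m a).1 ((eqOn_iff_coeff v₁ v₂ j₀).1 h0 a ha)
  let Y₁ : Over T := mkT (Y := P) (R ⧸ (m * 𝔠)) (Ideal.Quotient.mk ((m * 𝔠)))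
  let j₁ : Y₁ ⟶ P := yT (Y := P) (R ⧸ (m * 𝔠)) (Ideal.Quotient.mk ((m * 𝔠)))
  haveI : IsAffine Y₁.left := inferInstanceAs (IsAffine (Spec _))
  let J := 𝔠.map j₁.left.appTop.hom
  have hJ : J ^ 2 = ⊥ := by
    rw [← Ideal.map_pow, eq_bot_iff, Ideal.map_le_iff_le_comap, pow_two]
    exact fun b hb ↦ (hmk _ b).2 (Ideal.mul_mono_left hle hb)
  have hJp : ∀ r ∈ p, ∀ a ∈ J, Y₁.hom.appTop.hom r * a = 0 := by
    intro r hr a ha
    obtain ⟨c, hc, rfl⟩ := (Ideal.mem_map_iff_of_surjective _ (by
      rw [yT_appTop]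
      exact (ΓT_bijective (Y := P) _ _).2.comp Ideal.Quotient.mk_surjective)).1 ha
    rw [← Over.w j₁, Scheme.Hom.comp_appTop, CommRingCat.hom_comp, RingHom.comp_apply, ← map_mul]
    exact (hmk _ _).2 (Ideal.mul_mem_mul (hp.ge hr) hc)
  have h1 : EqOn v₁ v₂ Y₁ := by
    refine eqOn_of_sqZero w eW heW v₁ v₂ p hfix Y₁ (fun r hr ↦ ?_) J hJ hJp ?_
    · rw [← Over.w j₁, Scheme.Hom.comp_appTop, CommRingCat.hom_comp, RingHom.comp_apply]
      refine IsUnit.map _ (IsLocalRing.notMem_maximalIdeal.1 fun h ↦ hr (hp.le h))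
    · haveI : IsAffine (mkT (Y := Y₁) (Γ(Y₁.left, ⊤) ⧸ J) (Ideal.Quotient.mk J)).left :=
        inferInstanceAs (IsAffine (Spec _))
      refine (eqOn_iff_coeff v₁ v₂
        (yT (Y := Y₁) (Γ(Y₁.left, ⊤) ⧸ J) (Ideal.Quotient.mk J) ≫ j₁)).2 fun a ha ↦ ?_
      rw [Over.comp_left, Scheme.Hom.comp_appTop, CommRingCat.hom_comp, RingHom.comp_apply,
        show (yT (Y := Y₁) (Γ(Y₁.left, ⊤) ⧸ J) (Ideal.Quotient.mk J)).left.appTop.hom _ = _ from
          RingHom.congr_fun (yT_appTop _ _) _, RingHom.comp_apply,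
        Ideal.Quotient.eq_zero_iff_mem.2 (Ideal.mem_map_of_mem _ ha), map_zero]
  have h2 : 𝔠 ≤ m • 𝔠 := fun a ha ↦ by
    rw [smul_eq_mul]
    exact (hmk _ a).1 ((eqOn_iff_coeff v₁ v₂ j₁).1 h1 a ha)
  have h3 : 𝔠 = ⊥ := Submodule.eq_bot_of_le_smul_of_le_jacobson_bot _ _ (coeffIdeal_fg v₁ v₂) h2
    (IsLocalRing.maximalIdeal_le_jacobson _)
  refine (eqOn_iff_coeff v₁ v₂ (𝟙 P)).2 fun a ha ↦ ?_
  rw [show a = 0 from (Submodule.mem_bot _).1 (h3.le ha), map_zero]

include heW hfix hp h0 in
/-- **Local rigidity**: over a local ring, agreement at the closed point gives agreement. -/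
theorem eqOn_local [AddGroup.FG M] [LocallyOfFinitePresentation (kMor v₁ v₂ P)] :
    EqOn v₁ v₂ P := by
  have hfin : ∀ (N : Type) (_ : AddCommGroup N) (_ : Finite N) (q : M →+ N),
      EqOn (dsHom q ≫ v₁) (dsHom q ≫ v₂) P := by
    intro N _ _ q
    haveI : LocallyOfFinitePresentation (kMor (dsHom q ≫ v₁) (dsHom q ≫ v₂) P) := by
      let j := lift (fst (Red.DS T N) P ≫ dsHom q) (snd (Red.DS T N) P)
      have e : (eMor (dsHom q ≫ v₁) (dsHom q ≫ v₂) P).left = j.left ≫ (eMor v₁ v₂ P).left := by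
        rw [← Over.comp_left, lift_eMor, eMor, Category.assoc, Category.assoc]
      have key : ∀ (f : (Red.DS T N ⊗ P).left ⟶ G.left), f = j.left ≫ (eMor v₁ v₂ P).left →
          LocallyOfFinitePresentation (Limits.pullback.fst f η[G].left) := by
        rintro f rfl
        rw [← Limits.pullbackRightPullbackFstIso_inv_fst (eMor v₁ v₂ P).left η[G].left j.left]
        haveI : LocallyOfFinitePresentation
            (Limits.pullback.fst (eMor v₁ v₂ P).left η[G].left) :=
          ‹LocallyOfFinitePresentation (kMor v₁ v₂ P)›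
        infer_instance
      exact key _ e
    refine eqOn_finite (dsHom q ≫ v₁) (dsHom q ≫ v₂) P w eW heW p hp
      (fun Z hZ h y hy hy' ↦ ?_) fun W x h ↦ ?_
    · have e1 := hfix Z hZ (h ≫ dsHom q) y hy hy'
      rw [lift_conjMor] at e1 ⊢
      rwa [Category.assoc] at e1
    · have e1 := h0 W x (h ≫ dsHom q)
      rwa [Category.assoc, Category.assoc] at e1
  -- the agreement subscheme is everything
  haveI : IsAffine (Red.DS T M ⊗ P).left := by
    haveI : IsAffineHom (Red.DS T M).hom := inferInstance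
    infer_instance
  haveI : IsClosedImmersion (kMor v₁ v₂ P) := by
    refine IsClosedImmersion.of_isPreimmersion _ (isClosed_range_of_closedPoints _ fun z _ ↦ ?_)
    let X := (Red.DS T M ⊗ P).left
    let p : Spec (CommRingCat.of (X.residueField z)) ⟶ T :=
      X.fromSpecResidueField z ≫ (Red.DS T M ⊗ P).hom
    haveI : IsAffine (Over.mk p).left := inferInstanceAs (IsAffine (Spec _))
    haveI := isClosedImmersion_kMor_field v₁ v₂ (X.residueField z) p
    let c : Over.mk p ⟶ Red.DS T M ⊗ P := Over.homMk (X.fromSpecResidueField z) rfl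
    have h1 : EqOn v₁ v₂ (Over.mk p) := eqOn_of_quotients v₁ v₂ _
      fun N _ _ q ↦ (hfin N inferInstance inferInstance q).of_hom (c ≫ snd _ _)
    have h2 : c ≫ eMor v₁ v₂ P = 1 := by
      rw [← lift_comp_fst_snd c, lift_eMor, h1 _ (𝟙 _) (c ≫ fst _ _), mul_inv_cancel]
    obtain ⟨k, hk⟩ := (factor_iff v₁ v₂ c).1 h2
    let q : (Spec (X.residueField z) : Scheme.{u}) := default
    refine ⟨k q, ?_⟩
    rw [← Scheme.Hom.comp_apply, hk]
    exact Scheme.fromSpecResidueField_apply z q
  exact eqOn_of_quotients v₁ v₂ P hfin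

end Groth.Reductive.CentralEq
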