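import Groth.Agent.Reductive.CentralNhd.Chart
import Groth.Agent.Reductive.CentralEq.HomSqZero
import Groth.Agent.Reductive.TrivialActionDescent

/-!
Two homomorphisms from a diagonalisable group which agree modulo a square-zero ideal agree, if the
first one centralises the first infinitesimal neighbourhood of the unit.
-/

set_option autoImplicit false
set_option backward.isDefEq.respectTransparency false
universe u

open CategoryTheory MonoidalCategory CartesianMonoidalCategory MonObj GrpObj AlgebraicGeometry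
open Groth.Reductive.FreeDiag Groth.Reductive.CentralNhd

noncomputable section

namespace Groth.Reductive.CentralEq

attribute [local instance] algΓ'

variable {T : Scheme.{u}} {M : Type} [AddCommGroup M] {G : Over T}

/-- Two homomorphisms agree over `Z`. -/
def EqOn (v₁ v₂ : Red.DS T M ⟶ G) (Z : Over T) : Prop :=
  ∀ (W : Over T), (W ⟶ Z) → ∀ h : W ⟶ Red.DS T M, h ≫ v₁ = h ≫ v₂

lemma EqOn.of_hom {v₁ v₂ : Red.DS T M ⟶ G} {Z Z' : Over T} (h : EqOn v₁ v₂ Z) (a : Z' ⟶ Z) :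
    EqOn v₁ v₂ Z' := fun W w x ↦ h W (w ≫ a) x

variable [IsAffine T] [GrpObj G] {WT : Over T} [IsAffine WT.left] (w : WT ⟶ G)
  (eW : 𝟙_ (Over T) ⟶ WT) [IsOpenImmersion w.left] (heW : eW ≫ w = η[G])
  (v₁ v₂ : Red.DS T M ⟶ G) [IsMonHom v₁] [IsMonHom v₂]
  (p : Ideal Γ(T, ⊤)) (hfix : ∀ (Z : Over T), (∀ r, r ∉ p → IsUnit (Z.hom.appTop.hom r)) →
    ∀ (h : Z ⟶ Red.DS T M) (y : Z ⟶ WT), (∀ b ∈ augIdeal eW ^ 2, y.left.appTop b = 0) →
      (∀ r ∈ p, ∀ b ∈ augIdeal eW, Z.hom.appTop.hom r * y.left.appTop.hom b = 0) →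
        lift h (y ≫ w) ≫ conjMor v₁ = y ≫ w)

include hfix heW in
/-- Agreement modulo a square-zero ideal gives agreement. -/
theorem eqOn_of_sqZero (Y : Over T) [IsAffine Y.left]
    (hu : ∀ r, r ∉ p → IsUnit (Y.hom.appTop.hom r))
    (J : Ideal Γ(Y.left, ⊤)) (hJ : J ^ 2 = ⊥)
    (hJp : ∀ r ∈ p, ∀ a ∈ J, Y.hom.appTop.hom r * a = 0)
    (h0 : EqOn v₁ v₂ (mkT (Y := Y) (Γ(Y.left, ⊤) ⧸ J) (Ideal.Quotient.mk J))) :
    EqOn v₁ v₂ Y := by
  classical
  let D := Red.DS T M
  let Y₀ : Over T := mkT (Y := Y) (Γ(Y.left, ⊤) ⧸ J) (Ideal.Quotient.mk J)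
  haveI : IsAffine Y₀.left := inferInstanceAs (IsAffine (Spec _))
  let j₀ : Y₀ ⟶ Y := yT (Y := Y) (Γ(Y.left, ⊤) ⧸ J) (Ideal.Quotient.mk J)
  haveI : IsClosedImmersion j₀.left := by
    haveI : IsClosedImmersion (Spec.map (CommRingCat.ofHom (Ideal.Quotient.mk J))) :=
      IsClosedImmersion.spec_of_surjective _ Ideal.Quotient.mk_surjective
    exact inferInstanceAs (IsClosedImmersion (Spec.map _ ≫ Y.left.isoSpec.inv))
  have hj₀ : ∀ b, j₀.left.appTop.hom b = 0 ↔ b ∈ J := fun b ↦ by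
    rw [show j₀.left.appTop.hom b = ΓT (Y := Y) _ (Ideal.Quotient.mk J) (Ideal.Quotient.mk J b) from
      RingHom.congr_fun (yT_appTop _ _) b]
    rw [map_eq_zero_iff _ (ΓT_bijective (Y := Y) _ _).1, Ideal.Quotient.eq_zero_iff_mem]
  -- the difference
  let d : D ⊗ Y ⟶ G := (fst D Y ≫ v₂) * (fst D Y ≫ v₁)⁻¹
  have hd : ∀ (Z : Over T) (h : Z ⟶ D) (y : Z ⟶ Y), lift h y ≫ d = (h ≫ v₂) * (h ≫ v₁)⁻¹ :=
    fun Z h y ↦ by simp only [d, MonObj.comp_mul, GrpObj.comp_inv, lift_fst_assoc]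
  -- it lies in the chart
  have hrange : Set.range d.left ⊆ Set.range w.left := by
    rintro _ ⟨z, rfl⟩
    let P := (D ⊗ Y).left
    let Z : Over T := Over.mk (P.fromSpecResidueField z ≫ (D ⊗ Y).hom)
    let p : Z ⟶ D ⊗ Y := Over.homMk (P.fromSpecResidueField z) rfl
    haveI : IsReduced Z.left := inferInstanceAs (IsReduced (Spec _))
    obtain ⟨l, hl⟩ := exists_lift_of_appTop_ker j₀.left (p ≫ snd D Y).left fun r hr ↦ by
      have hr' : IsNilpotent r := ⟨2, by
        rw [← Ideal.mem_bot, ← hJ]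
        exact Ideal.pow_mem_pow ((hj₀ r).1 hr) 2⟩
      exact (hr'.map (p ≫ snd D Y).left.appTop.hom).eq_zero
    let l' : Z ⟶ Y₀ := Over.homMk l (by
      rw [← Over.w j₀, ← Category.assoc, hl]
      exact Over.w _)
    have e : p ≫ d = toUnit Z ≫ eW ≫ w := by
      conv_lhs => rw [← lift_comp_fst_snd p, hd]
      rw [h0 Z l' (p ≫ fst D Y), mul_inv_cancel, heW, Hom.one_def]
    let q : (Spec (P.residueField z) : Scheme.{u}) := default
    refine ⟨(toUnit Z ≫ eW).left q, ?_⟩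
    have e' := congrArg (fun f : Z ⟶ G ↦ f.left q) e
    rw [← Category.assoc] at e'
    simp only [Over.comp_left, Scheme.Hom.comp_apply] at e'
    rw [show p.left q = z from Scheme.fromSpecResidueField_apply z q] at e'
    exact e'.symm
  let dW : D ⊗ Y ⟶ WT := Over.homMk (IsOpenImmersion.lift w.left d.left hrange) (by
    rw [← Over.w w, IsOpenImmersion.lift_fac_assoc]
    exact Over.w d)
  have hdW : dW ≫ w = d := Over.OverMorphism.ext (IsOpenImmersion.lift_fac _ _ _)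
  haveI : Mono w := Over.mono_of_mono_left w
  -- and kills the square of the augmentation ideal
  let e := RingEquiv.ofBijective _ (κ₀_bijective (T := T) (M := M) (Y := Y))
  let Φ : Γ(WT.left, ⊤) →+* MonoidAlgebra Γ(Y.left, ⊤) (Multiplicative M) :=
    e.symm.toRingHom.comp dW.left.appTop.hom
  have hΦ : ∀ b, κ₀ (Φ b) = dW.left.appTop b := fun b ↦ e.apply_symm_apply _
  have hΦI : augIdeal eW ≤ (J.map (MonoidAlgebra.singleOneRingHom :
      _ →+* MonoidAlgebra Γ(Y.left, ⊤) (Multiplicative M))).comap Φ := by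
    intro b hb
    refine mem_map_singleOne J _ fun g ↦ (hj₀ _).1 (coeff_eq_zero_of_whisker j₀ _ ?_ g)
    rw [hΦ]
    have e1 : (D ◁ j₀) ≫ dW = toUnit _ ≫ eW := by
      rw [← cancel_mono w, Category.assoc, hdW,
        show D ◁ j₀ = lift (fst D Y₀) (snd D Y₀ ≫ j₀) by
          apply CartesianMonoidalCategory.hom_ext <;> simp,
        hd, h0 _ (snd D Y₀) (fst D Y₀), mul_inv_cancel, Category.assoc, heW, Hom.one_def]
    show ((D ◁ j₀).left.appTop.hom) (dW.left.appTop.hom b) = 0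
    rw [← RingHom.comp_apply, ← CommRingCat.hom_comp, ← Scheme.Hom.comp_appTop, ← Over.comp_left, e1,
      Over.comp_left, Scheme.Hom.comp_appTop, CommRingCat.hom_comp, RingHom.comp_apply,
      show eW.left.appTop.hom b = 0 from hb, map_zero]
  have hkill2 : ∀ b ∈ augIdeal eW ^ 2, dW.left.appTop b = 0 := by
    intro b hb
    have h1 : Φ b ∈ (J.map (MonoidAlgebra.singleOneRingHom :
        _ →+* MonoidAlgebra Γ(Y.left, ⊤) (Multiplicative M))) ^ 2 := by
      have := Ideal.pow_right_mono (Ideal.map_le_iff_le_comap.2 hΦI) 2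
      rw [← Ideal.map_pow] at this
      exact this (Ideal.mem_map_of_mem Φ hb)
    rw [← Ideal.map_pow, hJ, Ideal.map_bot, Ideal.mem_bot] at h1
    rw [← hΦ, h1, map_zero]
  have hann : ∀ r ∈ p, ∀ b ∈ augIdeal eW,
      (D ⊗ Y).hom.appTop.hom r * dW.left.appTop.hom b = 0 := by
    intro r hr b hb
    have e1 : κ₀ (MonoidAlgebra.single 1 (Y.hom.appTop.hom r)) = (D ⊗ Y).hom.appTop.hom r := by
      rw [κ₀, ptEv_single, ← dsValHom_apply, map_one, _root_.mul_one, ← Over.w (snd D Y),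
        Scheme.Hom.comp_appTop]
      rfl
    rw [← e1, show dW.left.appTop.hom b = κ₀ (Φ b) from (hΦ b).symm, ← map_mul]
    suffices h : ∀ f ∈ J.map (MonoidAlgebra.singleOneRingHom :
        _ →+* MonoidAlgebra Γ(Y.left, ⊤) (Multiplicative M)),
        MonoidAlgebra.single 1 (Y.hom.appTop.hom r) * f = 0 by
      rw [h _ (hΦI hb), map_zero]
    intro f hf
    induction hf using Submodule.span_induction with
    | mem f hf =>
      obtain ⟨a, ha, rfl⟩ := hf
      show _ * MonoidAlgebra.single 1 a = 0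
      rw [MonoidAlgebra.single_mul_single, hJp r hr a ha, MonoidAlgebra.single_zero]
    | zero => rw [MulZeroClass.mul_zero]
    | add x y _ _ hx hy => rw [mul_add, hx, hy, add_zero]
    | smul a x _ hx => rw [smul_eq_mul, mul_left_comm, hx, MulZeroClass.mul_zero]
  -- so it is fixed by the first homomorphism
  have hfix' : ∀ (Z : Over T) (h h' : Z ⟶ D) (y : Z ⟶ Y),
      (h ≫ v₁) * ((h' ≫ v₂) * (h' ≫ v₁)⁻¹) * (h ≫ v₁)⁻¹ = (h' ≫ v₂) * (h' ≫ v₁)⁻¹ := by
    intro Z h h' y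
    have hu' : ∀ r, r ∉ p → IsUnit (Z.hom.appTop.hom r) := fun r hr ↦ by
      rw [← Over.w y, Scheme.Hom.comp_appTop, CommRingCat.hom_comp, RingHom.comp_apply]
      exact (hu r hr).map _
    have e1 := hfix Z hu' h (lift h' y ≫ dW) (fun b hb ↦ by
        rw [Over.comp_left, Scheme.Hom.comp_appTop, CommRingCat.comp_apply, hkill2 b hb, map_zero])
      fun r hr b hb ↦ by
        rw [Over.comp_left, Scheme.Hom.comp_appTop, CommRingCat.hom_comp, RingHom.comp_apply,
          ← Over.w (lift h' y), Scheme.Hom.comp_appTop, CommRingCat.hom_comp, RingHom.comp_apply,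
          ← map_mul, hann r hr b hb, map_zero]
    rw [lift_conjMor, Category.assoc, hdW, hd] at e1
    exact e1
  have hmul : ∀ (Z : Over T) (h h' : Z ⟶ D), (Z ⟶ Y) →
      ((h * h') ≫ v₂) * ((h * h') ≫ v₁)⁻¹ =
        (h ≫ v₂) * (h ≫ v₁)⁻¹ * ((h' ≫ v₂) * (h' ≫ v₁)⁻¹) := by
    intro Z h h' y
    conv_rhs => rw [← hfix' Z h h' y]
    rw [MonObj.mul_comp, MonObj.mul_comp]
    group
  have h1 := eq_one_of_multiplicative d (fun Z h h' y ↦ by rw [hd, hd, hd]; exact hmul Z h h' y) J hJ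
    (fun Z h l y hl ↦ by rw [hd, ← h0 Z l h, mul_inv_cancel])
  intro W y h
  have h2 := lift h y ≫= h1
  rw [hd, MonObj.comp_one, mul_inv_eq_one] at h2
  exact h2.symm

end Groth.Reductive.CentralEq
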